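import Mathlib

/-!
# Field coordinates on an elementary abelian group with a transitive automorphism

`exists_coord`: an elementary abelian group of order `2 ^ n` on whose nonidentity elements the powers of an
automorphism act transitively is `GF(2 ^ n)` with the automorphism acting as multiplication by an element
`ω` whose powers exhaust the nonzero field elements. `equivariant_map`, `equivariant_biadd`: the only
`ω`-equivariant additive and biadditive maps on the field.
-/

set_option autoImplicit false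
set_option linter.unusedSectionVars false
set_option linter.style.haveILetI false

namespace Cfsg.Agent.H47.TwoSinger

variable {F : Type*} [Field F] {ω : F}

theorem equivariant_map (hω : ∀ x : F, x ≠ 0 → ∃ i : ℕ, ω ^ i = x) {f : F → F}
    (hadd : ∀ x y, f (x + y) = f x + f y) (he : ∀ x, f (ω * x) = ω * f x) (x : F) : f x = x * f 1 := by
  have h : ∀ i : ℕ, f (ω ^ i) = ω ^ i * f 1 := by
    intro i
    induction i with
    | zero => simp
    | succ i ih => rw [pow_succ', he, ih, mul_assoc]
  by_cases hx : x = 0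
  · subst hx
    have := hadd 0 0
    rw [add_zero, left_eq_add] at this
    rw [this, zero_mul]
  · obtain ⟨i, rfl⟩ := hω x hx
    exact h i

/-- An equivariant biadditive map is a square root of a multiple of the product. -/
theorem equivariant_biadd [Finite F] (h2 : ∀ x : F, x + x = 0) (hω : ∀ x : F, x ≠ 0 → ∃ i : ℕ, ω ^ i = x)
    {b : F → F → F} (hl : ∀ x y z, b (x + y) z = b x z + b y z) (hr : ∀ x y z, b x (y + z) = b x y + b x z)
    (he : ∀ x y, b (ω * x) (ω * y) = ω * b x y) (x y : F) : b x y * b x y = x * y * (b 1 1 * b 1 1) := by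
  have hl0 : ∀ z, b 0 z = 0 := fun z => by
    have := hl 0 0 z
    rwa [add_zero, left_eq_add] at this
  have hr0 : ∀ z, b z 0 = 0 := fun z => by
    have := hr z 0 0
    rwa [add_zero, left_eq_add] at this
  have hd : ∀ r x y, b (r * x) (r * y) = r * b x y := by
    intro r x y
    by_cases h : r = 0
    · simp [h, hl0]
    obtain ⟨i, rfl⟩ := hω r h
    induction i generalizing x y with
    | zero => simp
    | succ i ih =>
      by_cases h' : ω ^ i = 0
      · rw [pow_succ', h', mul_zero, zero_mul, zero_mul, zero_mul, hl0]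
      · rw [pow_succ', mul_assoc ω, mul_assoc ω, he, ih _ _ h', mul_assoc]
  have hsw : ∀ r x y, b (r * x) y + b x (r * y) = 0 := by
    intro r x y
    have h := hd (r + 1) x y
    rw [add_mul, add_mul, add_mul, one_mul, one_mul, one_mul, hl, hr, hr, hd r x y] at h
    linear_combination h
  have hsh : ∀ r x y, b (r * x) y = b x (r * y) := by
    intro r x y
    linear_combination hsw r x y - h2 (b x (r * y))
  have h1 : ∀ x y, b x y = b 1 (x * y) := fun x y => by
    rw [← hsh x 1 y, mul_one]
  have h3 : ∀ t, b 1 (t * t) = t * b 1 1 := fun t => by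
    rw [← h1 t t]
    have := hd t 1 1
    rwa [mul_one] at this
  have hinj : Function.Injective fun t : F => t * t := fun u v h => by
    have h' : (u + v) * (u + v) = 0 := by linear_combination h + h2 (u * v) + h2 (v * v)
    linear_combination mul_self_eq_zero.mp h' - h2 v
  obtain ⟨t, ht⟩ := Finite.injective_iff_surjective.mp hinj (x * y)
  simp only at ht
  rw [h1 x y, ← ht, h3]
  ring

theorem exists_coord {Q : Type*} [Group Q] [Finite Q] (E : Subgroup Q) {n : ℕ} (hn : 1 ≤ n)
    (hcard : Nat.card E = 2 ^ n) (hsq : ∀ x ∈ E, x * x = 1) (ρ : MulAut Q) (hρ : ∀ x ∈ E, ρ x ∈ E)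
    (htr : ∀ x y : Q, x ∈ E → y ∈ E → x ≠ 1 → y ≠ 1 → ∃ k : ℕ, (ρ ^ k) x = y) :
    ∃ (ω : GaloisField 2 n) (j : GaloisField 2 n → Q), (∀ x, x ≠ 0 → ∃ i : ℕ, ω ^ i = x) ∧
      (∀ x y, j (x + y) = j x * j y) ∧ Function.Injective j ∧ (∀ g, g ∈ E ↔ ∃ x, j x = g) ∧
      (∀ x, ρ (j x) = j (ω * x)) := by
  classical
  have hinv : ∀ x ∈ E, x⁻¹ = x := fun x hx => inv_eq_of_mul_eq_one_right (hsq x hx)
  letI : CommGroup E :=
    { (inferInstance : Group E) with
      mul_comm := fun a b => Subtype.ext (by
        have := hinv _ (E.mul_mem a.2 b.2)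
        rw [mul_inv_rev, hinv _ a.2, hinv _ b.2] at this
        exact this.symm) }
  let σ : AddMonoid.End (Additive E) :=
    AddMonoidHom.mk' (fun x => Additive.ofMul ⟨ρ x.toMul, hρ _ x.toMul.2⟩) fun a b => by
      rw [← ofMul_mul]
      exact congrArg _ (Subtype.ext (map_mul ρ _ _))
  let S : Subring (AddMonoid.End (Additive E)) := Subring.centralizer {σ}
  have hmem : ∀ r : AddMonoid.End (Additive E), r ∈ S ↔ σ * r = r * σ := by
    intro r
    simp [S, Subring.mem_centralizer_iff]
  have hpow : ∀ (k : ℕ) (x : E), ((((σ ^ k) (Additive.ofMul x)).toMul : E) : Q) = (ρ ^ k) x := by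
    intro k
    induction k with
    | zero => intro x; rfl
    | succ k ih =>
      intro x
      rw [pow_succ', pow_succ']
      show ρ ((((σ ^ k) (Additive.ofMul x)).toMul : E) : Q) = ρ ((ρ ^ k) x)
      rw [ih]
  obtain ⟨e, he⟩ : ∃ e : E, e ≠ 1 := by
    haveI : Nontrivial E := Finite.one_lt_card_iff_nontrivial.mp (hcard ▸ Nat.one_lt_two_pow (by omega))
    exact exists_ne 1
  have hcov : ∀ x : Additive E, x ≠ 0 → ∃ k : ℕ, (σ ^ k) (Additive.ofMul e) = x := by
    intro x hx
    obtain ⟨k, hk⟩ := htr e x.toMul e.2 x.toMul.2 (fun h => he (Subtype.ext h))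
      (fun h => hx (by rw [← ofMul_toMul x, show x.toMul = 1 from Subtype.ext h, ofMul_one]))
    exact ⟨k, Subtype.ext ((hpow k e).trans hk)⟩
  have hσS : σ ∈ S := (hmem _).mpr rfl
  let ev : S →+ Additive E :=
    AddMonoidHom.mk' (fun r => (r : AddMonoid.End (Additive E)) (Additive.ofMul e)) fun a b => rfl
  have hcomm : ∀ (r : S) (k : ℕ) (x : Additive E),
      (r : AddMonoid.End (Additive E)) ((σ ^ k) x) = (σ ^ k) ((r : AddMonoid.End (Additive E)) x) := by
    intro r k x
    have h : Commute σ (r : AddMonoid.End (Additive E)) := (hmem _).mp r.2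
    exact (DFunLike.congr_fun (h.pow_left k).eq x).symm
  have hevi : Function.Injective ev := by
    refine (injective_iff_map_eq_zero ev).mpr fun r hr => Subtype.ext (DFunLike.ext _ _ fun x => ?_)
    by_cases hx : x = 0
    · subst hx; rw [map_zero, map_zero]
    · obtain ⟨k, rfl⟩ := hcov x hx
      have h0 : (r : AddMonoid.End (Additive E)) (Additive.ofMul e) = 0 := hr
      rw [hcomm, h0, map_zero]
      rfl
  have hevs : Function.Surjective ev := by
    intro x
    by_cases hx : x = 0
    · exact ⟨0, by rw [map_zero, hx]⟩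
    · obtain ⟨k, hk⟩ := hcov x hx
      exact ⟨⟨σ ^ k, pow_mem hσS k⟩, hk⟩
  haveI : Finite S := Finite.of_injective ev hevi
  have hpowS : ∀ r : S, r ≠ 0 → ∃ k : ℕ, (⟨σ, hσS⟩ : S) ^ k = r := by
    intro r hr
    obtain ⟨k, hk⟩ := hcov (ev r) (fun h => hr (hevi (h.trans (map_zero ev).symm)))
    exact ⟨k, hevi hk⟩
  have hScard : Nat.card S = 2 ^ n := by
    rw [Nat.card_congr (Equiv.ofBijective ev ⟨hevi, hevs⟩),
      Nat.card_congr (Additive.toMul (α := E)), hcard]
  haveI : Nontrivial S := Finite.one_lt_card_iff_nontrivial.mp (hScard ▸ Nat.one_lt_two_pow (by omega))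
  have hσ0 : (⟨σ, hσS⟩ : S) ≠ 0 := by
    intro h
    have h1 : ((ρ ^ 1) e : Q) = 1 := by
      rw [← hpow, pow_one]
      have := congrArg (fun r : S => (r : AddMonoid.End (Additive E)) (Additive.ofMul e)) h
      simp only at this
      rw [this]
      rfl
    rw [pow_one, MulEquiv.map_eq_one_iff] at h1
    exact he (Subtype.ext h1)
  have hunit : IsUnit (⟨σ, hσS⟩ : S) := by
    obtain ⟨k, hk⟩ := htr (ρ e) e (hρ _ e.2) e.2 (fun h => he (Subtype.ext ((MulEquiv.map_eq_one_iff ρ).mp h)))
      (fun h => he (Subtype.ext h))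
    refine IsUnit.of_pow_eq_one (n := k + 1) (hevi (Subtype.ext ?_)) (Nat.succ_ne_zero k)
    show ((((σ ^ (k + 1)) (Additive.ofMul e)).toMul : E) : Q) = e
    rw [hpow, pow_succ]
    exact hk
  letI : CommRing S :=
    { (inferInstance : Ring S) with
      mul_comm := fun a b => by
        by_cases ha : a = 0
        · simp [ha]
        by_cases hb : b = 0
        · simp [hb]
        obtain ⟨i, rfl⟩ := hpowS a ha
        obtain ⟨j, rfl⟩ := hpowS b hb
        rw [← pow_add, ← pow_add, add_comm] }
  have hfield : IsField S :=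
    ⟨exists_pair_ne S, mul_comm, fun {a} ha => by
      obtain ⟨i, rfl⟩ := hpowS a ha
      exact ⟨((hunit.pow i).unit⁻¹ : Sˣ), (hunit.pow i).mul_val_inv⟩⟩
  letI : Field S := hfield.toField
  letI : Fintype S := Fintype.ofFinite S
  letI : Fintype (GaloisField 2 n) := Fintype.ofFinite _
  let θ : GaloisField 2 n ≃+* S := FiniteField.ringEquivOfCardEq (by
    rw [← Nat.card_eq_fintype_card, ← Nat.card_eq_fintype_card, GaloisField.card 2 n (by omega), hScard])
  refine ⟨θ.symm ⟨σ, hσS⟩, fun x => (((ev (θ x)).toMul : E) : Q), fun x hx => ?_, fun x y => ?_,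
    fun x y hxy => ?_, fun g => ⟨fun hg => ?_, ?_⟩, fun x => ?_⟩
  · obtain ⟨i, hi⟩ := hpowS (θ x) (fun h => hx ((map_eq_zero_iff θ θ.injective).mp h))
    exact ⟨i, by rw [← map_pow, hi, RingEquiv.symm_apply_apply]⟩
  · simp only
    rw [map_add, map_add]
    rfl
  · exact θ.injective (hevi (Subtype.ext hxy))
  · obtain ⟨r, hr⟩ := hevs (Additive.ofMul ⟨g, hg⟩)
    exact ⟨θ.symm r, by simp only; rw [RingEquiv.apply_symm_apply, hr]; rfl⟩
  · rintro ⟨x, rfl⟩
    exact ((ev (θ x)).toMul : E).2
  · simp only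
    rw [map_mul, RingEquiv.apply_symm_apply]
    rfl

end Cfsg.Agent.H47.TwoSinger
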