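import Mathlib
import Cfsg.Agent.H47.TwoSinger.Field

/-!
# 2-groups with an involutory automorphism whose fixed points are permuted transitively

`Hyp α ρ n`: the fixed points of the involutory automorphism `α` form an elementary abelian group `fix α` of order
`2 ^ n`, transitively permuted by the automorphism `ρ`, which commutes with `α` and has period `2 ^ n - 1`.
-/

set_option autoImplicit false
set_option linter.unusedSectionVars false
set_option linter.style.haveILetI false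

namespace Cfsg.Agent.H47.TwoSinger

open scoped commutatorElement

variable {Q : Type*} [Group Q] {α ρ : MulAut Q} {n : ℕ}

/-- Fixed points. -/
def fix (α : MulAut Q) : Subgroup Q where
  carrier := {x | α x = x}
  one_mem' := map_one α
  mul_mem' := fun {a b} (ha : α a = a) (hb : α b = b) => show α (a * b) = a * b by rw [map_mul, ha, hb]
  inv_mem' := fun {a} (ha : α a = a) => show α a⁻¹ = a⁻¹ by rw [map_inv, ha]

theorem mem_fix {x : Q} : x ∈ fix α ↔ α x = x := Iff.rfl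

/-- The displacement `x ↦ x⁻¹ α(x)`. -/
def d (α : MulAut Q) (x : Q) : Q := x⁻¹ * α x

theorem apply_eq (x : Q) : α x = x * d α x := (mul_inv_cancel_left x (α x)).symm

theorem d_eq_one {x : Q} : d α x = 1 ↔ x ∈ fix α := by
  rw [d, inv_mul_eq_one, mem_fix, eq_comm]

theorem d_mul (x y : Q) : d α (x * y) = y⁻¹ * d α x * y * d α y := by
  simp only [d, map_mul, mul_inv_rev, mul_assoc, mul_inv_cancel_left]

/-- The induced automorphism of a quotient. -/
def qAut (β : MulAut Q) (N : Subgroup Q) [N.Normal] (h : N.map (β : Q →* Q) = N) : MulAut (Q ⧸ N) :=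
  QuotientGroup.congr N N β h

theorem qAut_mk (β : MulAut Q) (N : Subgroup Q) [N.Normal] (h : N.map (β : Q →* Q) = N) (x : Q) :
    qAut β N h (QuotientGroup.mk' N x) = QuotientGroup.mk' N (β x) := rfl

theorem qAut_pow_mk (β : MulAut Q) (N : Subgroup Q) [N.Normal] (h : N.map (β : Q →* Q) = N) (k : ℕ) (x : Q) :
    (qAut β N h ^ k) (QuotientGroup.mk' N x) = QuotientGroup.mk' N ((β ^ k) x) := by
  induction k with
  | zero => rfl
  | succ k ih => rw [pow_succ', pow_succ', MulAut.mul_apply, ih, qAut_mk, MulAut.mul_apply]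

/-- The standing hypothesis. -/
structure Hyp (α ρ : MulAut Q) (n : ℕ) : Prop where
  two : IsPGroup 2 Q
  two_le : 2 ≤ n
  invol : ∀ x, α (α x) = x
  comm : ∀ x, α (ρ x) = ρ (α x)
  period : ρ ^ (2 ^ n - 1) = 1
  sq_fix : ∀ x, α x = x → x * x = 1
  card_fix : Nat.card (fix α) = 2 ^ n
  trans : ∀ x y, α x = x → α y = y → x ≠ 1 → y ≠ 1 → ∃ k : ℕ, (ρ ^ k) x = y

theorem Hyp.rho_mem (h : Hyp α ρ n) {x : Q} (hx : x ∈ fix α) : ρ x ∈ fix α := by
  rw [mem_fix, h.comm, mem_fix.mp hx]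

theorem Hyp.d_rho (h : Hyp α ρ n) (x : Q) : d α (ρ x) = ρ (d α x) := by
  simp only [d, map_mul, map_inv, h.comm]

theorem Hyp.exists_fixed [Finite Q] (h : Hyp α ρ n) {H : Subgroup Q} (hH : H ≠ ⊥) (hα : ∀ x ∈ H, α x ∈ H) :
    ∃ x ∈ H, x ≠ 1 ∧ α x = x := by
  haveI : Fact (Nat.Prime 2) := ⟨Nat.prime_two⟩
  letI : Fintype H := Fintype.ofFinite H
  let σ : Equiv.Perm H :=
    Function.Involutive.toPerm (fun x => ⟨α x, hα x x.2⟩) fun x => Subtype.ext (h.invol x)
  have hσ : σ ^ (2 ^ 1) = 1 := Equiv.ext fun x => by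
    rw [pow_one, pow_two, Equiv.Perm.mul_apply, Equiv.Perm.one_apply]
    exact Subtype.ext (h.invol x)
  have hd : 2 ∣ Fintype.card H := by
    obtain ⟨e, he⟩ := (h.two.to_subgroup H).exists_card_eq
    rw [← Nat.card_eq_fintype_card, he]
    refine dvd_pow_self 2 fun he0 => hH ?_
    exact Subgroup.eq_bot_of_card_eq H (by rw [he, he0, pow_zero])
  obtain ⟨b, hb, hb1⟩ := Equiv.Perm.exists_fixed_point_of_prime' hd hσ (a := 1) (Subtype.ext (map_one α))
  exact ⟨b, b.2, fun h1 => hb1 (Subtype.ext h1), congrArg Subtype.val hb⟩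

theorem Hyp.fix_le (h : Hyp α ρ n) {H : Subgroup Q} {x : Q} (hxH : x ∈ H) (hx1 : x ≠ 1) (hx : α x = x)
    (hρ : ∀ y ∈ H, ρ y ∈ H) : fix α ≤ H := by
  intro y hy
  by_cases hy1 : y = 1
  · subst hy1; exact H.one_mem
  obtain ⟨k, rfl⟩ := h.trans x y hx (mem_fix.mp hy) hx1 hy1
  clear hy hy1
  induction k with
  | zero => exact hxH
  | succ k ih => rw [pow_succ', MulAut.mul_apply]; exact hρ _ ih

/-- An invariant nontrivial subgroup contains all fixed points. -/
theorem Hyp.fix_le_of_invariant [Finite Q] (h : Hyp α ρ n) {H : Subgroup Q} (hH : H ≠ ⊥)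
    (hα : ∀ x ∈ H, α x ∈ H) (hρ : ∀ x ∈ H, ρ x ∈ H) : fix α ≤ H := by
  obtain ⟨x, hx, hx1, hxα⟩ := h.exists_fixed hH hα
  exact h.fix_le hx hx1 hxα hρ

theorem Hyp.nontrivial [Finite Q] (h : Hyp α ρ n) : Nontrivial Q := by
  by_contra hn
  rw [not_nontrivial_iff_subsingleton] at hn
  have h1 : Nat.card (fix α) = 1 := Nat.card_of_subsingleton (1 : fix α)
  rw [h.card_fix] at h1
  have := Nat.one_lt_two_pow (show n ≠ 0 by have := h.two_le; omega)
  omega

theorem Hyp.fix_le_center [Finite Q] (h : Hyp α ρ n) : fix α ≤ Subgroup.center Q := by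
  haveI := h.nontrivial
  haveI : Fact (Nat.Prime 2) := ⟨Nat.prime_two⟩
  refine h.fix_le_of_invariant ?_ (fun x hx => ?_) (fun x hx => ?_)
  · haveI : Nontrivial (Subgroup.center Q) := h.two.center_nontrivial
    exact (Subgroup.nontrivial_iff_ne_bot _).mp inferInstance
  · exact Subgroup.mem_center_iff.mpr fun g => by
      have := congrArg α (Subgroup.mem_center_iff.mp hx (α.symm g))
      simpa using this
  · exact Subgroup.mem_center_iff.mpr fun g => by
      have := congrArg ρ (Subgroup.mem_center_iff.mp hx (ρ.symm g))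
      simpa using this

theorem Hyp.central [Finite Q] (h : Hyp α ρ n) {e : Q} (he : e ∈ fix α) (g : Q) : Commute e g :=
  ((Subgroup.mem_center_iff.mp (h.fix_le_center he)) g).symm

theorem Hyp.d_mul_of_fix [Finite Q] (h : Hyp α ρ n) {x : Q} (hx : d α x ∈ fix α) (y : Q) :
    d α (x * y) = d α x * d α y := by
  rw [d_mul, mul_assoc y⁻¹ (d α x) y, (h.central hx y).eq, inv_mul_cancel_left]

/-- The subgroup of elements displaced into the fixed points. -/
def level [Finite Q] (h : Hyp α ρ n) : Subgroup Q where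
  carrier := {x | d α x ∈ fix α}
  one_mem' := by show d α 1 ∈ fix α; rw [d, inv_one, one_mul, map_one]; exact one_mem _
  mul_mem' := fun {a b} (ha : d α a ∈ fix α) (hb : d α b ∈ fix α) =>
    show d α (a * b) ∈ fix α by rw [h.d_mul_of_fix ha]; exact mul_mem ha hb
  inv_mem' := fun {a} (ha : d α a ∈ fix α) => show d α a⁻¹ ∈ fix α by
    have h1 := h.d_mul_of_fix ha a⁻¹
    rw [mul_inv_cancel, show d α (1 : Q) = 1 by simp [d]] at h1
    rw [eq_inv_of_mul_eq_one_right h1.symm]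
    exact inv_mem ha

theorem mem_level [Finite Q] {h : Hyp α ρ n} {x : Q} : x ∈ level h ↔ d α x ∈ fix α := Iff.rfl

theorem fix_le_level [Finite Q] (h : Hyp α ρ n) : fix α ≤ level h := fun x hx => by
  rw [mem_level, d_eq_one.mpr hx]; exact one_mem _

theorem Hyp.map_fix [Finite Q] (h : Hyp α ρ n) : (fix α).map (α : Q →* Q) = fix α := by
  ext x
  constructor
  · rintro ⟨y, hy, rfl⟩
    show α (α y) = α y
    rw [mem_fix.mp hy]; exact mem_fix.mp hy
  · exact fun hx => ⟨x, hx, mem_fix.mp hx⟩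

theorem Hyp.map_fix_rho [Finite Q] (h : Hyp α ρ n) : (fix α).map (ρ : Q →* Q) = fix α := by
  refine Subgroup.eq_of_le_of_card_ge ?_ ?_
  · rintro x ⟨y, hy, rfl⟩
    exact h.rho_mem hy
  · rw [Subgroup.card_map_of_injective ρ.injective]

/-- Field coordinates on the fixed points. -/
structure Coord (α ρ : MulAut Q) (n : ℕ) where
  /-- the multiplier -/
  ω : GaloisField 2 n
  /-- the parametrisation -/
  j : GaloisField 2 n → Q
  gen : ∀ x, x ≠ 0 → ∃ i : ℕ, ω ^ i = x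
  j_add : ∀ x y, j (x + y) = j x * j y
  j_inj : Function.Injective j
  mem : ∀ g, g ∈ fix α ↔ ∃ x, j x = g
  j_rho : ∀ x, ρ (j x) = j (ω * x)

theorem Hyp.exists_coord [Finite Q] (h : Hyp α ρ n) : Nonempty (Coord α ρ n) := by
  obtain ⟨ω, j, h1, h2, h3, h4, h5⟩ := TwoSinger.exists_coord (fix α) (by have := h.two_le; omega) h.card_fix
    (fun x hx => h.sq_fix x hx) ρ (fun x hx => h.rho_mem hx) (fun x y hx hy => h.trans x y hx hy)
  exact ⟨⟨ω, j, h1, h2, h3, h4, h5⟩⟩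

noncomputable section

open Classical in
/-- The coordinate of a fixed point. -/
def Coord.co (C : Coord α ρ n) (g : Q) : GaloisField 2 n :=
  if hg : ∃ x, C.j x = g then hg.choose else 0

theorem Coord.j_co (C : Coord α ρ n) {g : Q} (hg : g ∈ fix α) : C.j (C.co g) = g := by
  have := (C.mem g).mp hg
  rw [Coord.co, dif_pos this]
  exact this.choose_spec

theorem Coord.j_mem (C : Coord α ρ n) (x : GaloisField 2 n) : C.j x ∈ fix α := (C.mem _).mpr ⟨x, rfl⟩

theorem Coord.co_j (C : Coord α ρ n) (x : GaloisField 2 n) : C.co (C.j x) = x := C.j_inj (C.j_co (C.j_mem x))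

theorem Coord.j_zero (C : Coord α ρ n) : C.j 0 = 1 := by
  have h := C.j_add 0 0
  rwa [add_zero, left_eq_mul] at h

theorem Coord.co_one (C : Coord α ρ n) : C.co 1 = 0 := by rw [← C.j_zero, C.co_j]

theorem Coord.co_eq_zero (C : Coord α ρ n) {g : Q} (hg : g ∈ fix α) : C.co g = 0 ↔ g = 1 :=
  ⟨fun h => by rw [← C.j_co hg, h, C.j_zero], fun h => by rw [h, C.co_one]⟩

theorem Coord.co_mul (C : Coord α ρ n) {g g' : Q} (hg : g ∈ fix α) (hg' : g' ∈ fix α) :
    C.co (g * g') = C.co g + C.co g' :=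
  C.j_inj (by rw [C.j_co (mul_mem hg hg'), C.j_add, C.j_co hg, C.j_co hg'])

theorem Coord.co_rho (C : Coord α ρ n) (h : Hyp α ρ n) {g : Q} (hg : g ∈ fix α) :
    C.co (ρ g) = C.ω * C.co g :=
  C.j_inj (by rw [C.j_co (h.rho_mem hg), ← C.j_rho, C.j_co hg])

theorem Coord.add_self (_C : Coord α ρ n) (x : GaloisField 2 n) : x + x = 0 := CharTwo.add_self_eq_zero x

theorem Coord.co_inv (C : Coord α ρ n) (h : Hyp α ρ n) {g : Q} (hg : g ∈ fix α) : C.co g⁻¹ = C.co g := by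
  rw [inv_eq_of_mul_eq_one_right (h.sq_fix g (mem_fix.mp hg))]

/-- An equivariant nonzero map to the field, additive or not, is onto. -/
theorem Coord.surj (C : Coord α ρ n) {A : Subgroup Q} (hA : ∀ a ∈ A, ρ a ∈ A) {χ : Q → GaloisField 2 n}
    (hρ : ∀ a ∈ A, χ (ρ a) = C.ω * χ a) (h0 : ∃ a ∈ A, χ a = 0) (h1 : ∃ a ∈ A, χ a ≠ 0)
    (x : GaloisField 2 n) : ∃ a ∈ A, χ a = x := by
  by_cases hx : x = 0
  · exact hx ▸ h0
  obtain ⟨a, ha, hne⟩ := h1
  obtain ⟨i, hi⟩ := C.gen (x / χ a) (div_ne_zero hx hne)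
  have hk : ∀ k : ℕ, (ρ ^ k) a ∈ A ∧ χ ((ρ ^ k) a) = C.ω ^ k * χ a := by
    intro k
    induction k with
    | zero => exact ⟨ha, by simp⟩
    | succ k ih =>
      rw [pow_succ', MulAut.mul_apply]
      exact ⟨hA _ ih.1, by rw [hρ _ ih.1, ih.2, pow_succ', mul_assoc]⟩
  exact ⟨(ρ ^ i) a, (hk i).1, by rw [(hk i).2, hi, div_mul_cancel₀ _ hne]⟩

/-- A map on a subgroup to the field: additive and equivariant, with given kernel behaviour. -/
structure IsChar (C : Coord α ρ n) (A : Subgroup Q) (χ : Q → GaloisField 2 n) : Prop where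
  rho_mem : ∀ a ∈ A, ρ a ∈ A
  add : ∀ a ∈ A, ∀ b ∈ A, χ (a * b) = χ a + χ b
  rho : ∀ a ∈ A, χ (ρ a) = C.ω * χ a
  surj : ∀ x, ∃ a ∈ A, χ a = x

theorem IsChar.one {C : Coord α ρ n} {A : Subgroup Q} {χ : Q → GaloisField 2 n} (hχ : IsChar C A χ) :
    χ 1 = 0 := by
  have h := hχ.add 1 A.one_mem 1 A.one_mem
  rwa [one_mul, left_eq_add] at h

theorem IsChar.inv {C : Coord α ρ n} {A : Subgroup Q} {χ : Q → GaloisField 2 n} (hχ : IsChar C A χ) {a : Q}
    (ha : a ∈ A) : χ a⁻¹ = χ a := by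
  have h := hχ.add a ha a⁻¹ (inv_mem ha)
  rw [mul_inv_cancel, hχ.one] at h
  linear_combination -h - C.add_self (χ a)

/-- A central commutator pairing between two parametrised subgroups is a square root of the product. -/
theorem Hyp.pairing [Finite Q] (h : Hyp α ρ n) (C : Coord α ρ n) {A L : Subgroup Q}
    {χ μ : Q → GaloisField 2 n} (hχ : IsChar C A χ) (hμ : IsChar C L μ)
    (hkA : ∀ a ∈ A, χ a = 0 → ∀ l ∈ L, Commute a l) (hkL : ∀ l ∈ L, μ l = 0 → ∀ a ∈ A, Commute l a)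
    (hcm : ∀ a ∈ A, ∀ l ∈ L, ⁅a, l⁆ ∈ fix α) :
    ∃ c, ∀ a ∈ A, ∀ l ∈ L, C.co ⁅a, l⁆ * C.co ⁅a, l⁆ = χ a * μ l * c := by
  choose sA hsA using hχ.surj
  choose sL hsL using hμ.surj
  have hl : ∀ a ∈ A, ∀ a' ∈ A, ∀ l ∈ L, ⁅a * a', l⁆ = ⁅a, l⁆ * ⁅a', l⁆ := fun a ha a' ha' l hl => by
    have h1 : ⁅a * a', l⁆ = a * ⁅a', l⁆ * a⁻¹ * ⁅a, l⁆ := by simp only [commutatorElement_def]; group
    rw [h1, ← (h.central (hcm a' ha' l hl) a).eq, mul_inv_cancel_right,
      (h.central (hcm a' ha' l hl) _).eq]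
  have hr : ∀ a ∈ A, ∀ l ∈ L, ∀ l' ∈ L, ⁅a, l * l'⁆ = ⁅a, l⁆ * ⁅a, l'⁆ := fun a ha l _ l' hl' => by
    have h1 : ⁅a, l * l'⁆ = ⁅a, l⁆ * (l * ⁅a, l'⁆ * l⁻¹) := by simp only [commutatorElement_def]; group
    rw [h1, ← (h.central (hcm a ha l' hl') l).eq, mul_inv_cancel_right]
  have hsame : ∀ a ∈ A, ∀ l ∈ L, ⁅a, l⁆ = ⁅sA (χ a), sL (μ l)⁆ := by
    intro a ha l hlL
    obtain ⟨hs, hsv⟩ := hsA (χ a)
    obtain ⟨ht, htv⟩ := hsL (μ l)
    have hk : χ ((sA (χ a))⁻¹ * a) = 0 := by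
      rw [hχ.add _ (inv_mem hs) _ ha, hχ.inv hs, hsv, C.add_self]
    have hk' : μ ((sL (μ l))⁻¹ * l) = 0 := by
      rw [hμ.add _ (inv_mem ht) _ hlL, hμ.inv ht, htv, C.add_self]
    conv_lhs => rw [show a = sA (χ a) * ((sA (χ a))⁻¹ * a) from (mul_inv_cancel_left _ _).symm]
    rw [hl _ hs _ (mul_mem (inv_mem hs) ha) _ hlL,
      commutatorElement_eq_one_iff_commute.mpr (hkA _ (mul_mem (inv_mem hs) ha) hk l hlL), mul_one]
    conv_lhs => rw [show l = sL (μ l) * ((sL (μ l))⁻¹ * l) from (mul_inv_cancel_left _ _).symm]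
    rw [hr _ hs _ ht _ (mul_mem (inv_mem ht) hlL),
      commutatorElement_eq_one_iff_commute.mpr (hkL _ (mul_mem (inv_mem ht) hlL) hk' _ hs).symm, mul_one]
  let b : GaloisField 2 n → GaloisField 2 n → GaloisField 2 n := fun x y => C.co ⁅sA x, sL y⁆
  have hb : ∀ a ∈ A, ∀ l ∈ L, C.co ⁅a, l⁆ = b (χ a) (μ l) := fun a ha l hlL => by rw [hsame a ha l hlL]
  have main := equivariant_biadd (b := b) C.add_self C.gen
    (fun x y z => by
      have := hb _ (mul_mem (hsA x).1 (hsA y).1) _ (hsL z).1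
      rw [hl _ (hsA x).1 _ (hsA y).1 _ (hsL z).1, C.co_mul (hcm _ (hsA x).1 _ (hsL z).1)
        (hcm _ (hsA y).1 _ (hsL z).1), hχ.add _ (hsA x).1 _ (hsA y).1, (hsA x).2, (hsA y).2, (hsL z).2] at this
      exact this.symm)
    (fun x y z => by
      have := hb _ (hsA x).1 _ (mul_mem (hsL y).1 (hsL z).1)
      rw [hr _ (hsA x).1 _ (hsL y).1 _ (hsL z).1, C.co_mul (hcm _ (hsA x).1 _ (hsL y).1)
        (hcm _ (hsA x).1 _ (hsL z).1), hμ.add _ (hsL y).1 _ (hsL z).1, (hsA x).2, (hsL y).2, (hsL z).2] at this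
      exact this.symm)
    (fun x y => by
      have := hb _ (hχ.rho_mem _ (hsA x).1) _ (hμ.rho_mem _ (hsL y).1)
      rw [← map_commutatorElement, C.co_rho h (hcm _ (hsA x).1 _ (hsL y).1), hχ.rho _ (hsA x).1,
        hμ.rho _ (hsL y).1, (hsA x).2, (hsL y).2] at this
      exact this.symm)
  exact ⟨b 1 1 * b 1 1, fun a ha l hlL => by rw [hb a ha l hlL]; exact main _ _⟩

/-- A central alternating commutator form on a parametrised subgroup vanishes. -/
theorem Hyp.commute_of_alt [Finite Q] (h : Hyp α ρ n) (C : Coord α ρ n) {A : Subgroup Q}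
    {χ : Q → GaloisField 2 n} (hχ : IsChar C A χ) (hk : ∀ a ∈ A, χ a = 0 → ∀ l ∈ A, Commute a l)
    (hcm : ∀ a ∈ A, ∀ l ∈ A, ⁅a, l⁆ ∈ fix α) : ∀ a ∈ A, ∀ l ∈ A, Commute a l := by
  obtain ⟨c, hc⟩ := h.pairing C hχ hχ hk hk hcm
  obtain ⟨a, ha, ha1⟩ := hχ.surj 1
  have hc0 : c = 0 := by
    have := hc a ha a ha
    rw [commutatorElement_self, C.co_one, ha1, mul_zero, one_mul, one_mul] at this
    exact this.symm
  intro x hx y hy
  have := hc x hx y hy
  rw [hc0, mul_zero, mul_self_eq_zero, C.co_eq_zero (hcm x hx y hy)] at this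
  exact commutatorElement_eq_one_iff_commute.mp this

end

end Cfsg.Agent.H47.TwoSinger
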