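import Mathlib
import Cfsg.Agent.H47.TwoSinger.Basic

/-!
# The abelian case

An abelian group satisfying `Hyp` has no involution outside the fixed points (and is then homocyclic) or is
elementary abelian of order `q ^ 2`.
-/

set_option autoImplicit false
set_option linter.unusedSectionVars false
set_option linter.style.haveILetI false

namespace Cfsg.Agent.H47.TwoSinger

theorem card_map_mul_card_inf_ker {G H : Type*} [Group G] [Group H] (f : G →* H) (A : Subgroup G) :
    Nat.card (A.map f) * Nat.card (A ⊓ f.ker : Subgroup G) = Nat.card A := by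
  have h1 := (f.comp A.subtype).ker.card_eq_card_quotient_mul_card_subgroup
  have h2 : Nat.card (A ⧸ (f.comp A.subtype).ker) = Nat.card (A.map f) := by
    rw [Nat.card_congr (QuotientGroup.quotientKerEquivRange (f.comp A.subtype)).toEquiv, MonoidHom.range_comp,
      Subgroup.range_subtype]
  have h3 : Nat.card (f.comp A.subtype).ker = Nat.card (A ⊓ f.ker : Subgroup G) := by
    rw [← Subgroup.card_map_of_injective A.subtype_injective]
    congr 2
    ext x; simp [and_comm]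
  rw [h1, h2, h3]

variable {Q : Type*} [Group Q] [Finite Q] {α ρ : MulAut Q} {n : ℕ}

theorem Hyp.pow_mem_fix_rho (h : Hyp α ρ n) (hP : ∀ u : Q, u * u = 1 → u ∈ fix α) {u : Q} {m : ℕ}
    (hu : u ^ (2 ^ (m + 1)) = 1) : u ^ (2 ^ m) ∈ fix α := by
  refine hP _ ?_
  rw [← pow_add, ← two_mul, ← pow_succ', hu]

/-- The abelian case: homocyclic, or elementary of order `q ^ 2`. -/
theorem Hyp.abelian_cases (h : Hyp α ρ n) (hab : ∀ x y : Q, Commute x y) :
    (∀ u : Q, u * u = 1 → u ∈ fix α) ∨ ((∀ u : Q, u * u = 1) ∧ Nat.card Q = (2 ^ n) ^ 2) := by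
  let sq : Q →* Q := MonoidHom.mk' (fun u => u * u) fun a b => (hab b a).mul_mul_mul_comm a b
  let δ : Q →* Q := MonoidHom.mk' (d α) fun a b => by
    rw [d_mul, mul_assoc b⁻¹, (hab (d α a) b).eq, inv_mul_cancel_left]
  have hδsq : ∀ x, α (d α x) = (d α x)⁻¹ := fun x => by
    simp only [d, map_mul, map_inv, h.invol, mul_inv_rev, inv_inv]
  have hker : δ.ker = fix α := by
    ext x; exact d_eq_one
  by_cases hP : ∀ u : Q, u * u = 1 → u ∈ fix α
  · exact Or.inl hP
  push Not at hP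
  obtain ⟨w, hw, hwf⟩ := hP
  refine Or.inr ?_
  have hPfix : sq.ker.map δ = fix α := by
    refine le_antisymm ?_ ?_
    · rintro _ ⟨x, hx, rfl⟩
      refine mem_fix.mpr ((hδsq x).trans (inv_eq_of_mul_eq_one_right ?_))
      show δ x * δ x = 1
      rw [← map_mul, show x * x = 1 from hx, map_one]
    · refine h.fix_le (x := δ w) ⟨w, hw, rfl⟩ (fun h1 => hwf (d_eq_one.mp h1)) ?_ ?_
      · refine (hδsq w).trans (inv_eq_of_mul_eq_one_right ?_)
        show δ w * δ w = 1
        rw [← map_mul, hw, map_one]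
      · rintro _ ⟨x, hx, rfl⟩
        exact ⟨ρ x, show ρ x * ρ x = 1 by rw [← map_mul, show x * x = 1 from hx, map_one], h.d_rho x⟩
  have hfixP : fix α ≤ sq.ker := fun x hx => h.sq_fix x (mem_fix.mp hx)
  have hcardP : Nat.card sq.ker = (2 ^ n) ^ 2 := by
    rw [← card_map_mul_card_inf_ker δ, hPfix, hker, inf_eq_right.mpr hfixP, h.card_fix, ← pow_two]
  by_cases hall : ∀ u : Q, u * u = 1
  · refine ⟨hall, ?_⟩
    rw [← hcardP, ← Subgroup.card_top (G := Q)]
    congr 2
    exact (eq_top_iff.mpr fun u _ => hall u).symm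
  exfalso
  have hfixS : fix α ≤ sq.range := by
    refine h.fix_le_of_invariant ?_ ?_ ?_
    · intro hbot
      refine hall fun u => ?_
      have : sq u ∈ sq.range := ⟨u, rfl⟩
      rw [hbot, Subgroup.mem_bot] at this
      exact this
    · rintro _ ⟨x, rfl⟩; exact ⟨α x, (map_mul α x x).symm⟩
    · rintro _ ⟨x, rfl⟩; exact ⟨ρ x, (map_mul ρ x x).symm⟩
  have hinf : sq.ker ⊓ δ.range = fix α := by
    refine le_antisymm ?_ (le_inf hfixP fun x hx => ?_)
    · rintro x ⟨hx, y, rfl⟩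
      exact mem_fix.mpr ((hδsq y).trans (inv_eq_of_mul_eq_one_right hx))
    · rw [← hPfix] at hx
      obtain ⟨y, -, rfl⟩ := hx
      exact ⟨y, rfl⟩
  have hVcard : Nat.card δ.range * 2 ^ n = Nat.card Q := by
    have := card_map_mul_card_inf_ker δ ⊤
    rwa [← MonoidHom.range_eq_map, top_inf_eq, hker, h.card_fix, Subgroup.card_top] at this
  haveI : δ.range.Normal := ⟨fun x hx g => by rwa [(hab g x).eq, mul_inv_cancel_right]⟩
  have htop : sq.ker ⊔ δ.range = ⊤ := by
    apply Subgroup.eq_top_of_card_eq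
    have h1 := card_map_mul_card_inf_ker (QuotientGroup.mk' δ.range) sq.ker
    rw [QuotientGroup.ker_mk', hinf, hcardP, h.card_fix] at h1
    have h2 := card_map_mul_card_inf_ker (QuotientGroup.mk' δ.range) (sq.ker ⊔ δ.range)
    rw [QuotientGroup.ker_mk', inf_eq_right.mpr (le_sup_right : δ.range ≤ _), Subgroup.map_sup,
      QuotientGroup.map_mk'_self, sup_bot_eq] at h2
    have hpos : 0 < 2 ^ n := Nat.two_pow_pos n
    rw [← h2, ← hVcard]
    have h3 : Nat.card (sq.ker.map (QuotientGroup.mk' δ.range)) = 2 ^ n :=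
      Nat.eq_of_mul_eq_mul_right hpos (h1.trans (pow_two _))
    rw [h3, Nat.mul_comm]
  have hdec : ∀ u : Q, ∃ p, p * p = 1 ∧ ∃ y, u = p * δ y := by
    intro u
    have : u ∈ sq.ker ⊔ δ.range := by rw [htop]; exact Subgroup.mem_top u
    obtain ⟨p, hp, _, ⟨y, rfl⟩, rfl⟩ := Subgroup.mem_sup_of_normal_right.mp this
    exact ⟨p, hp, y, rfl⟩
  have hsqV : ∀ x, x ∈ sq.range → x ∈ δ.range.map sq := by
    rintro _ ⟨u, rfl⟩
    obtain ⟨p, hp, y, rfl⟩ := hdec u
    exact ⟨δ y, ⟨y, rfl⟩, by rw [map_mul, show sq p = 1 from hp, one_mul]⟩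
  have hVle : δ.range ≤ δ.range.map sq := by
    rintro _ ⟨v, rfl⟩
    obtain ⟨p, hp, y, rfl⟩ := hdec v
    have h1 : δ p ∈ δ.range.map sq := by
      refine hsqV _ (hfixS ?_)
      rw [← hPfix]
      exact ⟨p, hp, rfl⟩
    have h2 : δ (δ y) = sq ((δ y)⁻¹) := by
      show (d α y)⁻¹ * α (d α y) = _
      rw [hδsq]
      rfl
    rw [map_mul, h2]
    exact mul_mem h1 ⟨(δ y)⁻¹, inv_mem ⟨y, rfl⟩, rfl⟩
  have h3 := card_map_mul_card_inf_ker sq δ.range
  rw [inf_comm, hinf, h.card_fix] at h3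
  have h4 : Nat.card δ.range ≤ Nat.card (δ.range.map sq) :=
    Nat.card_le_card_of_injective _ (Subgroup.inclusion_injective hVle)
  have h5 : 1 < 2 ^ n := Nat.one_lt_two_pow (by have := h.two_le; omega)
  have h6 : 0 < Nat.card δ.range := Nat.card_pos
  nlinarith

/-- The homocyclic case: the character onto the fixed points with kernel the squares, and the order. -/
theorem Hyp.homocyclic (h : Hyp α ρ n) (C : Coord α ρ n) (hab : ∀ x y : Q, Commute x y)
    (hP : ∀ u : Q, u * u = 1 → u ∈ fix α) :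
    ∃ m : ℕ, (∀ u : Q, u ^ (2 ^ (m + 1)) = 1) ∧ Nat.card Q = (2 ^ n) ^ (m + 1) ∧
      (∀ e ∈ fix α, ∃ u, u ^ (2 ^ m) = e) ∧
      IsChar C ⊤ (fun u => C.co (u ^ (2 ^ m))) ∧
      ∀ u : Q, C.co (u ^ (2 ^ m)) = 0 ↔ ∃ v, v * v = u := by
  classical
  have hex : ∃ k : ℕ, ∀ u : Q, u ^ (2 ^ k) = 1 := by
    obtain ⟨e, he⟩ := h.two.exists_card_eq
    exact ⟨e, fun u => by rw [← he]; exact pow_card_eq_one'⟩
  obtain ⟨m, hm⟩ : ∃ m, Nat.find hex = m + 1 := by
    rcases Nat.eq_zero_or_pos (Nat.find hex) with h0 | h0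
    · exfalso
      have hs := Nat.find_spec hex
      rw [h0] at hs
      haveI := h.nontrivial
      obtain ⟨u, hu⟩ := exists_ne (1 : Q)
      exact hu (by simpa using hs u)
    · exact ⟨_, (Nat.succ_pred_eq_of_pos h0).symm⟩
  have hspec : ∀ u : Q, u ^ (2 ^ (m + 1)) = 1 := hm ▸ Nat.find_spec hex
  have hmin : ∃ u : Q, u ^ (2 ^ m) ≠ 1 := by
    by_contra hc
    push Not at hc
    exact Nat.find_min hex (show m < Nat.find hex by omega) hc
  have hmem : ∀ u : Q, u ^ (2 ^ m) ∈ fix α := fun u => h.pow_mem_fix_rho hP (hspec u)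
  let f : ℕ → (Q →* Q) := fun i => MonoidHom.mk' (fun u => u ^ (2 ^ i)) fun a b => (hab a b).mul_pow _
  have hrho : ∀ i, ∀ x ∈ (f i).range, ρ x ∈ (f i).range := by
    rintro i _ ⟨x, rfl⟩; exact ⟨ρ x, (map_pow ρ x _).symm⟩
  have hrange : (f m).range = fix α := by
    refine le_antisymm (by rintro _ ⟨u, rfl⟩; exact hmem u) ?_
    obtain ⟨u, hu⟩ := hmin
    exact h.fix_le (x := u ^ (2 ^ m)) ⟨u, rfl⟩ hu (mem_fix.mp (hmem u)) (hrho m)
  have hsucc : ∀ i u, f (i + 1) u = f i u * f i u := fun i u => by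
    show u ^ (2 ^ (i + 1)) = u ^ (2 ^ i) * u ^ (2 ^ i)
    rw [← pow_add, ← two_mul, ← pow_succ']
  have hf1 : ∀ u, f 1 u = u * u := fun u => by
    show u ^ (2 ^ 1) = u * u
    rw [pow_one, pow_two]
  have hker1 : (f 1).ker = fix α := by
    ext x
    rw [MonoidHom.mem_ker, hf1]
    exact ⟨hP x, fun hx => h.sq_fix x (mem_fix.mp hx)⟩
  have hcard : ∀ i, i ≤ m + 1 → Nat.card (f (m + 1 - i)).range = (2 ^ n) ^ i := by
    intro i
    induction i with
    | zero =>
      intro _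
      rw [Nat.sub_zero, pow_zero, Subgroup.card_eq_one, eq_bot_iff]
      rintro _ ⟨u, rfl⟩
      exact hspec u
    | succ i ih =>
      intro hi
      have h1 := card_map_mul_card_inf_ker (f 1) (f (m + 1 - (i + 1))).range
      have hle : fix α ≤ (f (m + 1 - (i + 1))).range := by
        intro e he
        rw [← hrange] at he
        obtain ⟨u, rfl⟩ := he
        refine ⟨u ^ (2 ^ i), ?_⟩
        show (u ^ (2 ^ i)) ^ (2 ^ (m + 1 - (i + 1))) = u ^ (2 ^ m)
        rw [← pow_mul, ← pow_add, show i + (m + 1 - (i + 1)) = m by omega]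
      have hmap : (f (m + 1 - (i + 1))).range.map (f 1) = (f (m + 1 - i)).range := by
        rw [MonoidHom.map_range]
        congr 1
        ext u
        rw [show m + 1 - i = m + 1 - (i + 1) + 1 by omega, hsucc, MonoidHom.comp_apply, hf1]
      rw [hmap, hker1, inf_eq_right.mpr hle, ih (by omega), h.card_fix, ← pow_succ] at h1
      exact h1.symm
  have hQ : Nat.card Q = (2 ^ n) ^ (m + 1) := by
    rw [← hcard (m + 1) le_rfl, Nat.sub_self, ← Subgroup.card_top (G := Q)]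
    congr 2
    exact (eq_top_iff.mpr fun u _ => ⟨u, by show u ^ (2 ^ 0) = u; simp⟩).symm
  refine ⟨m, hspec, hQ, fun e he => ?_, ⟨fun a _ => Subgroup.mem_top _, fun a _ b _ => ?_, fun a _ => ?_, ?_⟩,
    fun u => ?_⟩
  · rw [← hrange] at he
    exact he
  · rw [(hab a b).mul_pow, C.co_mul (hmem a) (hmem b)]
  · rw [← map_pow, C.co_rho h (hmem a)]
  · refine C.surj (fun a _ => Subgroup.mem_top _) (fun a _ => by rw [← map_pow, C.co_rho h (hmem a)])
      ⟨1, Subgroup.mem_top _, by rw [one_pow, C.co_one]⟩ ?_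
    obtain ⟨a, ha⟩ := hmin
    exact ⟨a, Subgroup.mem_top _, fun h0 => ha ((C.co_eq_zero (hmem a)).mp h0)⟩
  · rw [C.co_eq_zero (hmem u)]
    have hle : (f 1).range ≤ (f m).ker := by
      rintro _ ⟨v, rfl⟩
      show (v ^ (2 ^ 1)) ^ (2 ^ m) = 1
      rw [← pow_mul, ← pow_add, Nat.add_comm 1 m, hspec]
    have h1 := card_map_mul_card_inf_ker (f 1) ⊤
    have h2 := card_map_mul_card_inf_ker (f m) ⊤
    rw [← MonoidHom.range_eq_map, top_inf_eq, hker1] at h1
    rw [← MonoidHom.range_eq_map, top_inf_eq, hrange, Nat.mul_comm] at h2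
    have heq : (f 1).range = (f m).ker :=
      Subgroup.eq_of_le_of_card_ge hle
        (Nat.eq_of_mul_eq_mul_right Nat.card_pos (h2.trans h1.symm)).le
    rw [show (u ^ (2 ^ m) = 1) ↔ u ∈ (f m).ker from Iff.rfl, ← heq]
    exact ⟨fun ⟨v, hv⟩ => ⟨v, (hf1 v).symm.trans hv⟩, fun ⟨v, hv⟩ => ⟨v, (hf1 v).trans hv⟩⟩

end Cfsg.Agent.H47.TwoSinger
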