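import Mathlib

/-!
# Central extensions of elementary abelian 2-groups are determined by their squaring maps

`nonempty_mulEquiv`: two groups which are extensions of `V` by a central `A`, both of exponent two, with the same
squaring map `V → A`, are isomorphic.
-/

set_option autoImplicit false
set_option linter.unusedSectionVars false
set_option linter.style.haveILetI false

namespace Cfsg.Agent.H47.TwoSinger

/-- A presentation of `P` as a central extension of `V` by `A` with squaring map `Φ`. -/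
structure SqExt {P : Type*} [Group P] {V A : Type*} [AddCommGroup V] [AddCommGroup A] (Φ : V → A) where
  /-- the projection -/
  π : P → V
  /-- the kernel -/
  ι : A → P
  π_mul : ∀ a b, π (a * b) = π a + π b
  π_surj : Function.Surjective π
  ι_add : ∀ x y, ι (x + y) = ι x * ι y
  ι_inj : Function.Injective ι
  ker : ∀ a, π a = 0 ↔ ∃ z, ι z = a
  central : ∀ z a, Commute (ι z) a
  sq : ∀ a, a * a = ι (Φ (π a))

variable {P Q V A : Type*} [Group P] [Group Q] [AddCommGroup V] [AddCommGroup A] {Φ : V → A}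

theorem SqExt.ι_zero (e : SqExt (P := P) Φ) : e.ι 0 = 1 := by
  have h := e.ι_add 0 0
  rwa [add_zero, left_eq_mul] at h

theorem SqExt.ι_neg (e : SqExt (P := P) Φ) (x : A) : e.ι (-x) = (e.ι x)⁻¹ := by
  refine eq_inv_of_mul_eq_one_left ?_
  rw [← e.ι_add, neg_add_cancel, e.ι_zero]

theorem SqExt.π_one (e : SqExt (P := P) Φ) : e.π 1 = 0 := by
  have h := e.π_mul 1 1
  rwa [one_mul, left_eq_add] at h

theorem SqExt.π_inv (e : SqExt (P := P) Φ) (a : P) : e.π a⁻¹ = -e.π a := by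
  refine eq_neg_of_add_eq_zero_left ?_
  rw [← e.π_mul, inv_mul_cancel, e.π_one]

/-- Same squaring map, isomorphic extensions. -/
theorem nonempty_mulEquiv (h2 : ∀ z : A, z + z = 0) (e : SqExt (P := P) Φ) (f : SqExt (P := Q) Φ) :
    Nonempty (P ≃* Q) := by
  classical
  let D : Subgroup (P × Q) :=
    { carrier := {x | e.π x.1 = f.π x.2}
      one_mem' := by simp [e.π_one, f.π_one]
      mul_mem' := fun {a b} ha hb => by
        simp only [Set.mem_ofPred_eq, Prod.fst_mul, Prod.snd_mul, e.π_mul, f.π_mul] at ha hb ⊢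
        rw [ha, hb]
      inv_mem' := fun {a} ha => by
        simp only [Set.mem_ofPred_eq, Prod.fst_inv, Prod.snd_inv, e.π_inv, f.π_inv] at ha ⊢
        rw [ha] }
  let Δ : Subgroup D :=
    { carrier := {x | ∃ z, x.1.1 = e.ι z ∧ x.1.2 = f.ι z}
      one_mem' := ⟨0, by simp [e.ι_zero], by simp [f.ι_zero]⟩
      mul_mem' := fun {a b} ⟨z, h1, h2⟩ ⟨w, h3, h4⟩ =>
        ⟨z + w, by simp [e.ι_add, h1, h3], by simp [f.ι_add, h2, h4]⟩
      inv_mem' := fun {a} ⟨z, h1, h2⟩ => ⟨-z, by simp [e.ι_neg, h1], by simp [f.ι_neg, h2]⟩ }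
  haveI : Δ.Normal := ⟨fun x ⟨z, h1, h2⟩ g => ⟨z, by
    simp only [Subgroup.coe_mul, Prod.fst_mul, h1, InvMemClass.coe_inv, Prod.fst_inv]
    rw [← (e.central z g.1.1).eq, mul_inv_cancel_right], by
    simp only [Subgroup.coe_mul, Prod.snd_mul, h2, InvMemClass.coe_inv, Prod.snd_inv]
    rw [← (f.central z g.1.2).eq, mul_inv_cancel_right]⟩⟩
  have hsq : ∀ x : D ⧸ Δ, x * x = 1 := by
    intro x
    obtain ⟨d, rfl⟩ := QuotientGroup.mk'_surjective Δ x
    rw [← map_mul]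
    refine (QuotientGroup.eq_one_iff _).mpr ⟨Φ (e.π d.1.1), e.sq _, ?_⟩
    have hd : e.π d.1.1 = f.π d.1.2 := d.2
    rw [hd]
    exact f.sq _
  have hinv : ∀ x : D ⧸ Δ, x⁻¹ = x := fun x => inv_eq_of_mul_eq_one_right (hsq x)
  letI : CommGroup (D ⧸ Δ) :=
    { (inferInstance : Group (D ⧸ Δ)) with
      mul_comm := fun a b => by
        have := hinv (a * b)
        rw [mul_inv_rev, hinv, hinv] at this
        exact this.symm }
  letI : Module (ZMod 2) (Additive (D ⧸ Δ)) := AddCommGroup.zmodModule fun x => by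
    rw [two_nsmul]; exact hsq x.toMul
  letI : Module (ZMod 2) A := AddCommGroup.zmodModule fun x => by rw [two_nsmul]; exact h2 x
  have hmem : ∀ z, ((1 : P), f.ι z) ∈ D := fun z => by
    show e.π 1 = f.π (f.ι z)
    rw [e.π_one, (f.ker _).mpr ⟨z, rfl⟩]
  let g : A →+ Additive (D ⧸ Δ) :=
    AddMonoidHom.mk' (fun z => Additive.ofMul (QuotientGroup.mk' Δ ⟨_, hmem z⟩)) fun x y => by
      rw [← ofMul_mul, ← map_mul]
      congr 2
      apply Subtype.ext
      exact Prod.ext (one_mul 1).symm (f.ι_add x y)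
  let gl : A →ₗ[ZMod 2] Additive (D ⧸ Δ) := g.toZModLinearMap 2
  have hg : LinearMap.ker gl = ⊥ := by
    refine LinearMap.ker_eq_bot'.mpr fun z hz => ?_
    obtain ⟨w, h1, h3⟩ := (QuotientGroup.eq_one_iff _).mp (show QuotientGroup.mk' Δ ⟨_, hmem z⟩ = 1 from hz)
    have hw : w = 0 := e.ι_inj (by rw [e.ι_zero]; exact h1.symm)
    exact (f.ι_inj h3).trans hw
  obtain ⟨r, hr⟩ := LinearMap.exists_leftInverse_of_injective gl hg
  let R : D → A := fun d => r (Additive.ofMul (QuotientGroup.mk' Δ d))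
  have hR : ∀ a b, R (a * b) = R a + R b := fun a b => by
    show r _ = r _ + r _
    rw [← map_add, ← ofMul_mul, map_mul]
  have hRι : ∀ z, R ⟨_, hmem z⟩ = z := fun z => LinearMap.congr_fun hr z
  have hex : ∀ a : P, ∃ b : Q, ∃ h : (a, b) ∈ D, R ⟨(a, b), h⟩ = 0 := fun a => by
    obtain ⟨b, hb⟩ := f.π_surj (e.π a)
    have hab : (a, b) ∈ D := hb.symm
    refine ⟨b * f.ι (R ⟨_, hab⟩), ?_⟩
    have hm : (a, b * f.ι (R ⟨_, hab⟩)) ∈ D := by
      show e.π a = f.π _
      rw [f.π_mul, (f.ker _).mpr ⟨_, rfl⟩, add_zero, hb]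
    refine ⟨hm, ?_⟩
    have : (⟨_, hm⟩ : D) = ⟨_, hab⟩ * ⟨_, hmem (R ⟨_, hab⟩)⟩ :=
      Subtype.ext (Prod.ext (mul_one a).symm rfl)
    rw [this, hR, hRι, h2]
  choose φ hφD hφR using hex
  have huniq : ∀ (a : P) (b : Q) (h : (a, b) ∈ D), R ⟨(a, b), h⟩ = 0 → b = φ a := by
    intro a b h hb
    have hd : f.π (b⁻¹ * φ a) = 0 := by
      have h1 : e.π a = f.π b := h
      have h3 : e.π a = f.π (φ a) := hφD a
      rw [f.π_mul, f.π_inv, ← h1, ← h3, neg_add_cancel]
    obtain ⟨z, hz⟩ := (f.ker _).mp hd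
    have : (⟨_, hφD a⟩ : D) = ⟨_, h⟩ * ⟨_, hmem z⟩ :=
      Subtype.ext (Prod.ext (mul_one a).symm (by
        show φ a = b * f.ι z
        rw [hz, mul_inv_cancel_left]))
    have h0 := hφR a
    rw [this, hR, hb, hRι, zero_add] at h0
    rw [h0, f.ι_zero] at hz
    exact (eq_of_inv_mul_eq_one hz.symm)
  have hφmul : ∀ a b, φ (a * b) = φ a * φ b := fun a b => by
    refine (huniq _ _ (D.mul_mem (hφD a) (hφD b)) ?_).symm
    exact (hR ⟨_, hφD a⟩ ⟨_, hφD b⟩).trans (by rw [hφR, hφR, add_zero])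
  let Ψ : P →* Q := MonoidHom.mk' φ hφmul
  refine ⟨MulEquiv.ofBijective Ψ ⟨(injective_iff_map_eq_one Ψ).mpr fun a ha => ?_, fun b => ?_⟩⟩
  · have ha' : φ a = 1 := ha
    have h1 : e.π a = f.π (φ a) := hφD a
    rw [ha', f.π_one] at h1
    obtain ⟨z, hz⟩ := (e.ker _).mp h1
    have h0 := hφR a
    have hdel : QuotientGroup.mk' Δ (⟨(a, φ a), hφD a⟩ * ⟨_, hmem z⟩ : D) = 1 := by
      refine (QuotientGroup.eq_one_iff _).mpr ⟨z, ?_, ?_⟩
      · show a * 1 = e.ι z
        rw [mul_one, hz]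
      · show φ a * f.ι z = f.ι z
        rw [ha', one_mul]
    have hz0 : R (⟨(a, φ a), hφD a⟩ * ⟨_, hmem z⟩ : D) = 0 := by
      show r _ = 0
      rw [hdel, ofMul_one, map_zero]
    rw [hR, h0, hRι, zero_add] at hz0
    rw [← hz, hz0, e.ι_zero]
  · obtain ⟨a, ha⟩ := e.π_surj (f.π b)
    have hab : (a, b) ∈ D := ha
    set z := R ⟨_, hab⟩
    refine ⟨a * e.ι z, (huniq _ _ ?_ ?_).symm⟩
    · show e.π (a * e.ι z) = f.π b
      rw [e.π_mul, (e.ker _).mpr ⟨_, rfl⟩, add_zero, ha]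
    · have hz : (e.ι z, (1 : Q)) ∈ D := by
        show e.π _ = f.π 1
        rw [f.π_one, (e.ker _).mpr ⟨_, rfl⟩]
      have h3 : R ⟨_, hz⟩ + R ⟨_, hmem z⟩ = 0 := by
        rw [← hR]
        show r _ = 0
        have hm : QuotientGroup.mk' Δ ((⟨_, hz⟩ : D) * ⟨_, hmem z⟩) = 1 :=
          (QuotientGroup.eq_one_iff _).mpr ⟨z, by simp, by simp⟩
        rw [hm, ofMul_one, map_zero]
      rw [hRι] at h3
      have h4 : R ⟨_, hz⟩ = z := (eq_neg_of_add_eq_zero_left h3).trans (eq_neg_of_add_eq_zero_left (h2 z)).symm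
      show R (⟨(a * e.ι z, b), _⟩ : D) = 0
      have : (⟨(a * e.ι z, b), by
          show e.π (a * e.ι z) = f.π b
          rw [e.π_mul, (e.ker _).mpr ⟨_, rfl⟩, add_zero, ha]⟩ : D) = ⟨_, hab⟩ * ⟨_, hz⟩ :=
        Subtype.ext (Prod.ext rfl (mul_one b).symm)
      rw [this, hR, h4, h2]

end Cfsg.Agent.H47.TwoSinger
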