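import Mathlib
import Cfsg.Agent.H47.TwoSinger.Abelian

/-!
# A nonabelian group satisfying `Hyp` has order `q ^ 3` and squares among the fixed points
-/

set_option autoImplicit false
set_option linter.unusedSectionVars false
set_option linter.style.haveILetI false

namespace Cfsg.Agent.H47.TwoSinger

open scoped commutatorElement

universe u

variable {Q : Type u} [Group Q] [Finite Q] {α ρ : MulAut Q} {n : ℕ}

theorem exists_fixed_of_invol {P : Type*} [Group P] [Finite P] [Nontrivial P] (hP : IsPGroup 2 P) (σ : MulAut P)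
    (hσ : ∀ x, σ (σ x) = x) : ∃ x, x ≠ 1 ∧ σ x = x := by
  haveI : Fact (Nat.Prime 2) := ⟨Nat.prime_two⟩
  letI : Fintype P := Fintype.ofFinite P
  have hσ' : (Function.Involutive.toPerm σ hσ) ^ (2 ^ 1) = 1 := Equiv.ext fun x => by
    rw [pow_one, pow_two, Equiv.Perm.mul_apply, Equiv.Perm.one_apply]
    exact hσ x
  have hd : 2 ∣ Fintype.card P := by
    obtain ⟨k, hk, he⟩ := hP.nontrivial_iff_card.mp ‹_›
    rw [← Nat.card_eq_fintype_card, he]
    exact dvd_pow_self 2 hk.ne'
  obtain ⟨b, hb, hb1⟩ := Equiv.Perm.exists_fixed_point_of_prime' hd hσ' (a := 1) (map_one σ)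
  exact ⟨b, hb1, hb⟩

theorem Hyp.fix_normal (h : Hyp α ρ n) : (fix α).Normal :=
  ⟨fun x hx g => by rwa [← (h.central hx g).eq, mul_inv_cancel_right]⟩

theorem Hyp.d_mem_center_eq (h : Hyp α ρ n) {x e : Q} (he : e ∈ fix α) : d α (e * x) = d α x := by
  rw [h.d_mul_of_fix (by rw [d_eq_one.mpr he]; exact one_mem _), d_eq_one.mpr he, one_mul]

theorem mk_d (h : Hyp α ρ n) [(fix α).Normal] (x : Q) :
    d (qAut α (fix α) h.map_fix) (QuotientGroup.mk' (fix α) x) = QuotientGroup.mk' (fix α) (d α x) := by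
  rw [d, qAut_mk, ← map_inv, ← map_mul, d]

theorem mk_mem_fix (h : Hyp α ρ n) [(fix α).Normal] (x : Q) :
    QuotientGroup.mk' (fix α) x ∈ fix (qAut α (fix α) h.map_fix) ↔ x ∈ level h := by
  rw [← d_eq_one, mk_d h, mem_level]
  exact QuotientGroup.eq_one_iff _

/-- The coordinate of the displacement on `level`, given a displaced element. -/
theorem Hyp.char_level (h : Hyp α ρ n) (C : Coord α ρ n) (hne : ∃ g : Q, g ∉ fix α) :
    IsChar C (level h) (fun x => C.co (d α x)) := by
  have hρ : ∀ a ∈ level h, ρ a ∈ level h := fun a ha => by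
    rw [mem_level, h.d_rho]; exact h.rho_mem ha
  refine ⟨hρ, fun a ha b hb => by rw [h.d_mul_of_fix ha, C.co_mul ha hb],
    fun a ha => by rw [h.d_rho, C.co_rho h ha], ?_⟩
  refine C.surj hρ (fun a ha => by rw [h.d_rho, C.co_rho h ha])
    ⟨1, one_mem _, by rw [d_eq_one.mpr (one_mem _), C.co_one]⟩ ?_
  haveI := h.fix_normal
  haveI : Nontrivial (Q ⧸ fix α) := by
    obtain ⟨g, hg⟩ := hne
    exact ⟨⟨QuotientGroup.mk' _ g, 1, fun h1 => hg ((QuotientGroup.eq_one_iff _).mp h1)⟩⟩
  obtain ⟨x, hx1, hx⟩ := exists_fixed_of_invol (h.two.to_quotient (fix α)) (qAut α (fix α) h.map_fix) fun x => by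
    obtain ⟨y, rfl⟩ := QuotientGroup.mk'_surjective _ x
    rw [qAut_mk, qAut_mk, h.invol]
  obtain ⟨y, rfl⟩ := QuotientGroup.mk'_surjective _ x
  have hy : y ∈ level h := (mk_mem_fix h y).mp (mem_fix.mpr hx)
  refine ⟨y, hy, fun h0 => hx1 ((QuotientGroup.eq_one_iff _).mpr ?_)⟩
  exact d_eq_one.mp ((C.co_eq_zero hy).mp h0)

theorem Hyp.comm_level (h : Hyp α ρ n) {a b : Q} (ha : a ∈ level h) (hb : b ∈ level h) : ⁅a, b⁆ ∈ fix α := by
  let φ : level h →* Q := MonoidHom.mk' (fun x => d α (x : Q)) fun x y => h.d_mul_of_fix x.2 y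
  rw [← d_eq_one]
  show φ ⁅(⟨a, ha⟩ : level h), ⟨b, hb⟩⁆ = 1
  rw [map_commutatorElement, commutatorElement_eq_one_iff_commute]
  exact h.central ha _

theorem Hyp.level_comm (h : Hyp α ρ n) (C : Coord α ρ n) : ∀ a ∈ level h, ∀ b ∈ level h, Commute a b := by
  by_cases hne : ∃ g : Q, g ∉ fix α
  · refine h.commute_of_alt C (h.char_level C hne) (fun a ha h0 l _ => h.central ?_ l) fun a ha b hb =>
      h.comm_level ha hb
    exact d_eq_one.mp ((C.co_eq_zero ha).mp h0)
  · push Not at hne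
    exact fun a _ b _ => h.central (hne a) b

/-- The quotient by the fixed points inherits the hypothesis. -/
theorem Hyp.quot (h : Hyp α ρ n) [(fix α).Normal] (hne : ∃ g : Q, g ∉ fix α) :
    Hyp (qAut α (fix α) h.map_fix) (qAut ρ (fix α) h.map_fix_rho) n := by
  obtain ⟨C⟩ := h.exists_coord
  have hC := h.char_level C hne
  refine ⟨h.two.to_quotient _, h.two_le, fun x => ?_, fun x => ?_, ?_, fun x hx => ?_, ?_, ?_⟩
  · obtain ⟨y, rfl⟩ := QuotientGroup.mk'_surjective _ x
    rw [qAut_mk, qAut_mk, h.invol]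
  · obtain ⟨y, rfl⟩ := QuotientGroup.mk'_surjective _ x
    rw [qAut_mk, qAut_mk, qAut_mk, qAut_mk, h.comm]
  · refine MulEquiv.ext fun x => ?_
    obtain ⟨y, rfl⟩ := QuotientGroup.mk'_surjective _ x
    rw [qAut_pow_mk, h.period]
    rfl
  · obtain ⟨y, rfl⟩ := QuotientGroup.mk'_surjective _ x
    have hy : y ∈ level h := (mk_mem_fix h y).mp (mem_fix.mpr hx)
    rw [← map_mul]
    refine (QuotientGroup.eq_one_iff _).mpr (d_eq_one.mp ?_)
    rw [h.d_mul_of_fix hy, h.sq_fix _ (mem_fix.mp hy)]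
  · choose s hs using hC.surj
    rw [← GaloisField.card 2 n (by have := h.two_le; omega)]
    refine (Nat.card_eq_of_bijective
      (fun x => (⟨QuotientGroup.mk' (fix α) (s x), (mk_mem_fix h _).mpr (hs x).1⟩ :
        fix (qAut α (fix α) h.map_fix))) ⟨fun x y hxy => ?_, fun u => ?_⟩).symm
    · have h1 : (s x)⁻¹ * s y ∈ fix α :=
        QuotientGroup.eq.mp (congrArg Subtype.val hxy : QuotientGroup.mk' (fix α) (s x) = _)
      have h2 := hC.add _ (inv_mem (hs x).1) _ (hs y).1
      rw [show C.co (d α ((s x)⁻¹ * s y)) = 0 by rw [d_eq_one.mpr h1, C.co_one], hC.inv (hs x).1,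
        (hs x).2, (hs y).2] at h2
      linear_combination -h2 - C.add_self y
    · obtain ⟨u, hu⟩ := u
      obtain ⟨y, rfl⟩ := QuotientGroup.mk'_surjective _ u
      have hy : y ∈ level h := (mk_mem_fix h y).mp hu
      refine ⟨C.co (d α y), Subtype.ext (QuotientGroup.eq.mpr ?_)⟩
      have h2 := hC.add _ (inv_mem (hs (C.co (d α y))).1) _ hy
      rw [hC.inv (hs _).1, (hs _).2, C.add_self] at h2
      exact d_eq_one.mp ((C.co_eq_zero (mem_level.mp (mul_mem (inv_mem (hs _).1) hy))).mp h2)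
  · intro x y hx hy hx1 hy1
    obtain ⟨a, rfl⟩ := QuotientGroup.mk'_surjective _ x
    obtain ⟨b, rfl⟩ := QuotientGroup.mk'_surjective _ y
    have ha : a ∈ level h := (mk_mem_fix h a).mp (mem_fix.mpr hx)
    have hb : b ∈ level h := (mk_mem_fix h b).mp (mem_fix.mpr hy)
    have ha1 : d α a ≠ 1 := fun h1 => hx1 ((QuotientGroup.eq_one_iff _).mpr (d_eq_one.mp h1))
    have hb1 : d α b ≠ 1 := fun h1 => hy1 ((QuotientGroup.eq_one_iff _).mpr (d_eq_one.mp h1))
    obtain ⟨k, hk⟩ := h.trans _ _ (mem_fix.mp ha) (mem_fix.mp hb) ha1 hb1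
    have hd : ∀ k : ℕ, d α ((ρ ^ k) a) = (ρ ^ k) (d α a) ∧ (ρ ^ k) a ∈ level h := by
      intro k
      induction k with
      | zero => exact ⟨rfl, ha⟩
      | succ k ih =>
        rw [pow_succ', MulAut.mul_apply, MulAut.mul_apply, h.d_rho, ih.1]
        exact ⟨rfl, hC.rho_mem _ ih.2⟩
    refine ⟨k, ?_⟩
    rw [qAut_pow_mk]
    refine QuotientGroup.eq.mpr ?_
    rw [← d_eq_one, h.d_mul_of_fix ((level h).inv_mem (hd k).2)]
    have h1 : d α ((ρ ^ k) a)⁻¹ * d α ((ρ ^ k) a) = 1 := by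
      rw [← h.d_mul_of_fix ((level h).inv_mem (hd k).2), inv_mul_cancel]
      exact d_eq_one.mpr (one_mem _)
    rw [eq_inv_of_mul_eq_one_left h1, (hd k).1, hk, inv_mul_cancel]

/-- Squares among the fixed points and order `q ^ 3`. -/
def Spec (α : MulAut Q) (n : ℕ) : Prop := (∀ x : Q, x * x ∈ fix α) ∧ Nat.card Q = (2 ^ n) ^ 3

section SquaresFixed

variable (h : Hyp α ρ n) (hsq : ∀ x : Q, x * x ∈ fix α)
include h hsq

theorem comm_fix (x y : Q) : ⁅x, y⁆ ∈ fix α := by
  haveI := h.fix_normal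
  have h2 : ∀ u : Q ⧸ fix α, u * u = 1 := fun u => by
    obtain ⟨v, rfl⟩ := QuotientGroup.mk'_surjective _ u
    rw [← map_mul]; exact (QuotientGroup.eq_one_iff _).mpr (hsq v)
  refine (QuotientGroup.eq_one_iff _).mp ?_
  show QuotientGroup.mk' (fix α) ⁅x, y⁆ = 1
  rw [map_commutatorElement, commutatorElement_eq_one_iff_commute]
  have hi := fun u => inv_eq_of_mul_eq_one_right (h2 u)
  have h3 := hi (QuotientGroup.mk' (fix α) x * QuotientGroup.mk' (fix α) y)
  rw [mul_inv_rev, hi, hi] at h3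
  exact h3.symm

theorem d_mem_level (x : Q) : d α x ∈ level h := by
  rw [mem_level]
  have e : d α (d α x) = ((α x)⁻¹ * x) * ((α x)⁻¹ * x) := by
    simp only [d, map_mul, map_inv, h.invol, mul_inv_rev, inv_inv, mul_assoc]
  rw [e]
  exact hsq _

theorem dd_mul (x y : Q) : d α (d α (x * y)) = d α (d α x) * d α (d α y) := by
  have e : y⁻¹ * d α x * y = ⁅y⁻¹, d α x⁆ * d α x := by simp [commutatorElement_def, mul_assoc]
  have hc := comm_fix h hsq y⁻¹ (d α x)
  rw [d_mul, e, mul_assoc, h.d_mem_center_eq hc, h.d_mul_of_fix (d_mem_level h hsq x)]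

theorem exists_not_level (C : Coord α ρ n) (hna : ¬ ∀ x y : Q, Commute x y) : ∃ g, g ∉ level h := by
  by_contra hc
  push Not at hc
  exact hna fun x y => h.level_comm C x (hc x) y (hc y)

theorem char_top (C : Coord α ρ n) (hna : ¬ ∀ x y : Q, Commute x y) :
    IsChar C ⊤ (fun x => C.co (d α (d α x))) := by
  have hm : ∀ x, d α (d α x) ∈ fix α := fun x => d_mem_level h hsq x
  have hr : ∀ a ∈ (⊤ : Subgroup Q), C.co (d α (d α (ρ a))) = C.ω * C.co (d α (d α a)) := fun a _ => by
    rw [h.d_rho, h.d_rho, C.co_rho h (hm a)]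
  refine ⟨fun a _ => Subgroup.mem_top _, fun a _ b _ => ?_, hr, ?_⟩
  · rw [dd_mul h hsq, C.co_mul (hm a) (hm b)]
  · refine C.surj (fun a _ => Subgroup.mem_top _) hr ⟨1, Subgroup.mem_top _, ?_⟩ ?_
    · rw [d_eq_one.mpr (one_mem (fix α)), d_eq_one.mpr (one_mem (fix α)), C.co_one]
    · obtain ⟨g, hg⟩ := exists_not_level h hsq C hna
      exact ⟨g, Subgroup.mem_top _, fun h0 => hg (d_eq_one.mp ((C.co_eq_zero (hm g)).mp h0))⟩

/-- The subgroup `level h` does not centralize the whole group. -/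
theorem level_not_central (C : Coord α ρ n) (hna : ¬ ∀ x y : Q, Commute x y) :
    ¬ ∀ k ∈ level h, ∀ a : Q, Commute k a := by
  intro hc
  refine hna fun x y => ?_
  refine h.commute_of_alt C (char_top h hsq C hna) (fun a _ h0 l _ => hc a ?_ l)
    (fun a _ l _ => comm_fix h hsq a l) x (Subgroup.mem_top _) y (Subgroup.mem_top _)
  exact d_eq_one.mp ((C.co_eq_zero (d_mem_level h hsq a)).mp h0)

end SquaresFixed

/-- The quotient cannot be nonabelian. -/
theorem Hyp.quot_not_spec (h : Hyp α ρ n) [(fix α).Normal] (hne : ∃ g : Q, g ∉ fix α)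
    (hsq' : ∀ u : Q ⧸ fix α, u * u ∈ fix (qAut α (fix α) h.map_fix)) :
    ∀ u v : Q ⧸ fix α, Commute u v := by
  by_contra hna
  obtain ⟨C⟩ := h.exists_coord
  have hU := h.quot hne
  obtain ⟨CU⟩ := hU.exists_coord
  set mk := QuotientGroup.mk' (fix α)
  -- facts imported from the quotient
  have hsqQ : ∀ x : Q, x * x ∈ level h := fun x => by
    rw [← mk_mem_fix h, map_mul]; exact hsq' _
  have hcmQ : ∀ x y : Q, ⁅x, y⁆ ∈ level h := fun x y => by
    rw [← mk_mem_fix h, map_commutatorElement]; exact comm_fix hU hsq' _ _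
  have hk2 : ∀ x : Q, mk x ∈ level hU ↔ d α x ∈ level h := fun x => by
    rw [mem_level, mk_d h, mk_mem_fix h]
  have hddm : ∀ x : Q, d α (d α x) ∈ level h := fun x => by
    rw [← hk2, ← mk_d h]; exact d_mem_level hU hsq' _
  have hcentral : ∀ k ∈ level h, ∀ a : Q, ⁅a, k⁆ ∈ fix α := fun k hk a => by
    refine (QuotientGroup.eq_one_iff _).mp ?_
    show mk ⁅a, k⁆ = 1
    rw [map_commutatorElement, commutatorElement_eq_one_iff_commute]
    exact (hU.central ((mk_mem_fix h k).mpr hk) _).symm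
  have hK2cm : ∀ b b' : Q, d α b ∈ level h → d α b' ∈ level h → ⁅b, b'⁆ ∈ fix α := fun b b' hb hb' => by
    refine (QuotientGroup.eq_one_iff _).mp ?_
    show mk ⁅b, b'⁆ = 1
    rw [map_commutatorElement, commutatorElement_eq_one_iff_commute]
    exact hU.level_comm CU _ ((hk2 b).mpr hb) _ ((hk2 b').mpr hb')
  have hK := h.level_comm C
  -- the two higher characters
  let K2 : Subgroup Q := (level hU).comap mk
  have hK2 : ∀ b, b ∈ K2 ↔ d α b ∈ level h := hk2
  have hlt : ∀ {x : Q}, x ∈ level h → x ∈ K2 := fun {x} hx => (hK2 x).mpr (fix_le_level h hx)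
  have hadd3 : ∀ x y, d α (d α (d α (x * y))) = d α (d α (d α x)) * d α (d α (d α y)) := by
    intro x y
    have h1 : mk (d α (d α (x * y))) = mk (d α (d α x) * d α (d α y)) := by
      simp only [map_mul, mk, ← mk_d h]
      exact dd_mul hU hsq' _ _
    have h2 : (d α (d α (x * y)))⁻¹ * (d α (d α x) * d α (d α y)) ∈ fix α := QuotientGroup.eq.mp h1
    have h3 := h.d_mem_center_eq (x := d α (d α (x * y))) h2
    rw [← (h.central h2 _).symm.eq, mul_inv_cancel_left] at h3
    rw [← h3, h.d_mul_of_fix (hddm x)]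
  have hadd2 : ∀ x y, d α x ∈ level h → d α y ∈ level h →
      d α (d α (x * y)) = d α (d α x) * d α (d α y) := by
    intro x y hx hy
    have h1 : mk (d α (x * y)) = mk (d α x * d α y) := by
      simp only [map_mul, mk, ← mk_d h]
      exact hU.d_mul_of_fix ((hk2 x).mpr hx) _
    have h2 : (d α (x * y))⁻¹ * (d α x * d α y) ∈ fix α := QuotientGroup.eq.mp h1
    have h3 := h.d_mem_center_eq (x := d α (x * y)) h2
    rw [← (h.central h2 _).symm.eq, mul_inv_cancel_left] at h3
    rw [← h3, h.d_mul_of_fix hx]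
  obtain ⟨g0, hg0⟩ : ∃ g : Q, d α (d α g) ∉ fix α := by
    obtain ⟨u, hu⟩ := exists_not_level hU hsq' CU hna
    obtain ⟨g, rfl⟩ := QuotientGroup.mk'_surjective (fix α) u
    exact ⟨g, fun h0 => hu ((hk2 g).mpr (mem_level.mpr h0))⟩
  have hg0' : d α (d α (d α g0)) ≠ 1 := fun h1 => hg0 (d_eq_one.mp h1)
  have h1z : d α (1 : Q) = 1 := d_eq_one.mpr (one_mem _)
  set χ : Q → GaloisField 2 n := fun x => C.co (d α (d α (d α x))) with hχdef
  set μ : Q → GaloisField 2 n := fun x => C.co (d α (d α x)) with hμdef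
  have hχr : ∀ a ∈ (⊤ : Subgroup Q), χ (ρ a) = C.ω * χ a := fun a _ => by
    simp only [χ, h.d_rho, C.co_rho h (mem_level.mp (hddm a))]
  have hχ : IsChar C ⊤ χ := by
    refine ⟨fun a _ => Subgroup.mem_top _, fun a _ b _ => ?_, hχr,
      C.surj (fun a _ => Subgroup.mem_top _) hχr ⟨1, Subgroup.mem_top _, by simp only [χ, h1z, C.co_one]⟩
        ⟨g0, Subgroup.mem_top _, fun h0 => hg0' ((C.co_eq_zero (hddm g0)).mp h0)⟩⟩
    simp only [χ, hadd3, C.co_mul (mem_level.mp (hddm a)) (mem_level.mp (hddm b))]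
  have hK2ρ : ∀ a ∈ K2, ρ a ∈ K2 := fun a ha => by
    rw [hK2, h.d_rho, mem_level, h.d_rho]
    exact h.rho_mem ((hK2 a).mp ha)
  have hμr : ∀ a ∈ K2, μ (ρ a) = C.ω * μ a := fun a ha => by
    simp only [μ, h.d_rho, C.co_rho h (mem_level.mp ((hK2 a).mp ha))]
  have hμ : IsChar C K2 μ := by
    refine ⟨hK2ρ, fun a ha b hb => ?_, hμr,
      C.surj hK2ρ hμr ⟨1, one_mem _, by simp only [μ, h1z, C.co_one]⟩
        ⟨d α g0, (hK2 _).mpr (hddm g0), fun h0 => hg0' ((C.co_eq_zero (hddm g0)).mp h0)⟩⟩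
    simp only [μ, hadd2 a b ((hK2 a).mp ha) ((hK2 b).mp hb),
      C.co_mul (mem_level.mp ((hK2 a).mp ha)) (mem_level.mp ((hK2 b).mp hb))]
  have hχK2 : ∀ a, χ a = 0 ↔ a ∈ K2 := fun a => by
    rw [hK2, mem_level, ← d_eq_one, C.co_eq_zero (hddm a)]
  have hμK : ∀ a ∈ K2, (μ a = 0 ↔ a ∈ level h) := fun a ha => by
    rw [mem_level, ← d_eq_one, C.co_eq_zero ((hK2 a).mp ha)]
  -- `level h` is centralized by `K2`
  have hshift : ∀ a, ∀ k ∈ level h, Commute (d α a) k := by
    intro a k hk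
    rw [← commutatorElement_eq_one_iff_commute]
    have h1 : α ⁅a, k⁆ = ⁅a, k⁆ := mem_fix.mp (hcentral k hk a)
    have h2 : ⁅α a, α k⁆ = a * ⁅d α a, k⁆ * a⁻¹ * ⁅a, k⁆ := by
      rw [apply_eq a, apply_eq k]
      have hc : ∀ g : Q, Commute (d α k) g := fun g => h.central hk g
      have : ⁅a * d α a, k * d α k⁆ = ⁅a * d α a, k⁆ := by
        rw [show ⁅a * d α a, k * d α k⁆ = ⁅a * d α a, k⁆ * (k * ⁅a * d α a, d α k⁆ * k⁻¹) by
          simp only [commutatorElement_def]; group,
          commutatorElement_eq_one_iff_commute.mpr (hc _).symm, mul_one, mul_inv_cancel, mul_one]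
      rw [this]
      simp only [commutatorElement_def]
      group
    rw [map_commutatorElement, h2] at h1
    have h3 : a * ⁅d α a, k⁆ * a⁻¹ = 1 := by
      rw [← mul_left_inj ⁅a, k⁆, one_mul, h1]
    exact conj_eq_one_iff.mp h3
  have hK2K : ∀ b ∈ K2, ∀ k ∈ level h, Commute b k := by
    intro b hb k hk
    obtain ⟨a, -, ha⟩ := hχ.surj (μ b)
    have hda : d α a ∈ K2 := (hK2 _).mpr (hddm a)
    have h0 : μ ((d α a)⁻¹ * b) = 0 := by
      rw [hμ.add _ (inv_mem hda) _ hb, hμ.inv hda, show μ (d α a) = χ a from rfl, ha, C.add_self]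
    have h1 : (d α a)⁻¹ * b ∈ level h := (hμK _ (mul_mem (inv_mem hda) hb)).mp h0
    rw [← mul_inv_cancel_left (d α a) b]
    exact (hshift a k hk).mul_left (hK _ h1 k hk)
  have hlc := h.char_level C hne
  obtain ⟨c, hc⟩ := h.pairing C hχ hlc (fun a _ h0 l hl => hK2K a ((hχK2 a).mp h0) l hl)
    (fun l hl h0 a _ => h.central (d_eq_one.mp ((C.co_eq_zero hl).mp h0)) a) (fun a _ l hl => hcentral l hl a)
  by_cases hc0 : c = 0
  · -- `level h` is central
    have hKc : ∀ k ∈ level h, ∀ a : Q, Commute a k := fun k hk a => by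
      have h1 := hc a (Subgroup.mem_top _) k hk
      rw [hc0, mul_zero, mul_self_eq_zero, C.co_eq_zero (hcentral k hk a)] at h1
      exact commutatorElement_eq_one_iff_commute.mp h1
    have hK2ab : ∀ a ∈ K2, ∀ b ∈ K2, Commute a b :=
      h.commute_of_alt C hμ (fun a ha h0 l _ => (hKc a ((hμK a ha).mp h0) l).symm)
        fun a ha b hb => hK2cm a b ((hK2 a).mp ha) ((hK2 b).mp hb)
    refine level_not_central hU hsq' CU hna fun u hu v => ?_
    obtain ⟨b, rfl⟩ := QuotientGroup.mk'_surjective (fix α) u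
    obtain ⟨a, rfl⟩ := QuotientGroup.mk'_surjective (fix α) v
    refine Commute.symm ?_
    rw [← commutatorElement_eq_one_iff_commute, ← map_commutatorElement]
    refine (QuotientGroup.eq_one_iff _).mpr (mem_fix.mpr ?_)
    have hb : d α b ∈ level h := (hk2 b).mp hu
    have hda : d α a ∈ K2 := (hK2 _).mpr (hddm a)
    rw [map_commutatorElement, apply_eq a, apply_eq b]
    have h1 : Commute (d α a) b := hK2ab _ hda _ ((hK2 b).mpr hb)
    have h2 : ⁅a * d α a, b * d α b⁆ = ⁅a * d α a, b⁆ * (b * ⁅a * d α a, d α b⁆ * b⁻¹) := by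
      simp only [commutatorElement_def]; group
    have h3 : ⁅a * d α a, b⁆ = a * ⁅d α a, b⁆ * a⁻¹ * ⁅a, b⁆ := by
      simp only [commutatorElement_def]; group
    rw [h2, h3, commutatorElement_eq_one_iff_commute.mpr h1,
      commutatorElement_eq_one_iff_commute.mpr (hKc _ hb (a * d α a)), mul_one, mul_one, mul_inv_cancel,
      mul_inv_cancel, one_mul, mul_one]
  · -- every element outside `K2` has its square among the fixed points
    have hinv : ∀ a, χ a ≠ 0 → mk a * mk a = 1 := by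
      intro a ha
      rw [← map_mul]
      refine (QuotientGroup.eq_one_iff _).mpr ?_
      have h1 := hc a (Subgroup.mem_top _) (a * a) (hsqQ a)
      rw [commutatorElement_eq_one_iff_commute.mpr ((Commute.refl a).mul_right (Commute.refl a)), C.co_one,
        mul_zero] at h1
      have h2 : C.co (d α (a * a)) = 0 := by
        rcases mul_eq_zero.mp h1.symm with h3 | h3
        · rcases mul_eq_zero.mp h3 with h4 | h4
          · exact absurd h4 ha
          · exact h4
        · exact absurd h3 hc0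
      exact d_eq_one.mp ((C.co_eq_zero (hsqQ a)).mp h2)
    have hflip : ∀ a, χ a ≠ 0 → ∀ b ∈ K2, mk a * mk b * (mk a)⁻¹ = (mk b)⁻¹ := by
      intro a ha b hb
      have hab : χ (a * b) ≠ 0 := by
        rw [hχ.add _ (Subgroup.mem_top _) _ (Subgroup.mem_top _), (hχK2 b).mpr hb, add_zero]; exact ha
      have h1 := hinv (a * b) hab
      rw [map_mul] at h1
      rw [inv_eq_of_mul_eq_one_right (hinv a ha)]
      exact eq_inv_of_mul_eq_one_left ((mul_assoc _ _ _).trans h1)
    have hK2c : ∀ a, χ a ≠ 0 → ∀ b ∈ K2, Commute (mk a) (mk b) := by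
      intro a ha b hb
      obtain ⟨y, hy1, hy2⟩ : ∃ y : GaloisField 2 n, y ≠ 0 ∧ χ a + y ≠ 0 := by
        by_contra hno
        push Not at hno
        haveI : Finite (GaloisField 2 n) := inferInstance
        have hsub : ∀ y : GaloisField 2 n, y = 0 ∨ y = χ a := fun y => by
          by_cases hy : y = 0
          · exact Or.inl hy
          · exact Or.inr (by linear_combination hno y hy - C.add_self (χ a))
        letI : Fintype (GaloisField 2 n) := Fintype.ofFinite _
        have h4 : Fintype.card (GaloisField 2 n) ≤ 2 := by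
          classical
          refine le_trans (Finset.card_le_card (t := ({0, χ a} : Finset (GaloisField 2 n))) fun y _ => ?_)
            Finset.card_le_two
          simpa using hsub y
        rw [← Nat.card_eq_fintype_card, GaloisField.card 2 n (by have := h.two_le; omega)] at h4
        have : 2 ^ 2 ≤ 2 ^ n := Nat.pow_le_pow_right two_pos h.two_le
        omega
      obtain ⟨a', -, ha'⟩ := hχ.surj y
      have ha'0 : χ a' ≠ 0 := ha' ▸ hy1
      have haa : χ (a * a') ≠ 0 := by
        rw [hχ.add _ (Subgroup.mem_top _) _ (Subgroup.mem_top _), ha']; exact hy2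
      have h1 := hflip (a * a') haa b hb
      rw [map_mul, mul_inv_rev, show mk a * mk a' * mk b * ((mk a')⁻¹ * (mk a)⁻¹)
        = mk a * (mk a' * mk b * (mk a')⁻¹) * (mk a)⁻¹ by group, hflip a' ha'0 b hb,
        show mk a * (mk b)⁻¹ * (mk a)⁻¹ = (mk a * mk b * (mk a)⁻¹)⁻¹ by group, hflip a ha b hb, inv_inv] at h1
      have h2 := hflip a ha b hb
      rw [← h1] at h2
      exact mul_inv_eq_iff_eq_mul.mp h2
    refine level_not_central hU hsq' CU hna fun u hu v => ?_
    obtain ⟨b, rfl⟩ := QuotientGroup.mk'_surjective (fix α) u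
    obtain ⟨a, rfl⟩ := QuotientGroup.mk'_surjective (fix α) v
    by_cases ha : χ a = 0
    · exact hU.level_comm CU _ hu _ ((hχK2 a).mp ha)
    · exact (hK2c a ha b hu).symm

theorem classify_aux : ∀ (N : ℕ) (Q : Type u) [Group Q] [Finite Q] (α ρ : MulAut Q) (n : ℕ),
    Nat.card Q = N → Hyp α ρ n → (∀ x y : Q, Commute x y) ∨ Spec α n := by
  intro N
  induction N using Nat.strong_induction_on with
  | _ N ih =>
    intro Q _ _ α ρ n hN h
    by_cases hne : ∃ g : Q, g ∉ fix α
    swap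
    · push Not at hne
      exact Or.inl fun x y => h.central (hne x) y
    haveI := h.fix_normal
    have hU := h.quot hne
    have hcard : Nat.card Q = Nat.card (Q ⧸ fix α) * 2 ^ n := by
      rw [(fix α).card_eq_card_quotient_mul_card_subgroup, h.card_fix]
    have hlt : Nat.card (Q ⧸ fix α) < N := by
      rw [← hN, hcard]
      exact lt_mul_of_one_lt_right Nat.card_pos (Nat.one_lt_two_pow (by have := h.two_le; omega))
    have hab : ∀ x y : Q ⧸ fix α, Commute x y := by
      rcases ih _ hlt _ _ _ n rfl hU with hc | hs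
      · exact hc
      · exact h.quot_not_spec hne hs.1
    rcases hU.abelian_cases hab with hP | ⟨hall, hc2⟩
    · refine Or.inl fun x y => ?_
      obtain ⟨C⟩ := h.exists_coord
      obtain ⟨CU⟩ := hU.exists_coord
      obtain ⟨m, hspec, -, honto, -, hker⟩ := hU.homocyclic CU hab hP
      set mk := QuotientGroup.mk' (fix α)
      have hcm : ∀ a b : Q, ⁅a, b⁆ ∈ fix α := fun a b => by
        refine (QuotientGroup.eq_one_iff _).mp ?_
        show mk ⁅a, b⁆ = 1
        rw [map_commutatorElement, commutatorElement_eq_one_iff_commute]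
        exact hab _ _
      have hlc := h.char_level C hne
      have hind : ∀ k k' : Q, mk k' = mk k → d α k' = d α k := by
        intro k k' he
        have h1 : k'⁻¹ * k ∈ fix α := QuotientGroup.eq.mp he
        have h3 := h.d_mem_center_eq (x := k') h1
        rw [← (h.central h1 _).symm.eq, mul_inv_cancel_left] at h3
        exact h3.symm
      have hmem : ∀ a : Q, a ^ (2 ^ m) ∈ level h := fun a => by
        rw [← mk_mem_fix h, map_pow]
        exact hU.pow_mem_fix_rho hP (hspec _)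
      have hρ : ∀ a ∈ (⊤ : Subgroup Q), C.co (d α (ρ a ^ (2 ^ m))) = C.ω * C.co (d α (a ^ (2 ^ m))) :=
        fun a _ => by rw [← map_pow, h.d_rho, C.co_rho h (hmem a)]
      have hχ : IsChar C ⊤ (fun a => C.co (d α (a ^ (2 ^ m)))) := by
        refine ⟨fun a _ => Subgroup.mem_top _, fun a _ b _ => ?_, hρ,
          C.surj (fun a _ => Subgroup.mem_top _) hρ
            ⟨1, Subgroup.mem_top _, by rw [one_pow, d_eq_one.mpr (one_mem _), C.co_one]⟩ ?_⟩
        · have he : mk ((a * b) ^ (2 ^ m)) = mk (a ^ (2 ^ m) * b ^ (2 ^ m)) := by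
            simp only [map_pow, map_mul, (hab (mk a) (mk b)).mul_pow]
          rw [hind _ _ he, h.d_mul_of_fix (hmem a), C.co_mul (hmem a) (hmem b)]
        · obtain ⟨k, hk, hk1⟩ := hlc.surj 1
          obtain ⟨u, hu⟩ := honto (mk k) ((mk_mem_fix h k).mpr hk)
          obtain ⟨a, rfl⟩ := QuotientGroup.mk'_surjective (fix α) u
          refine ⟨a, Subgroup.mem_top _, ?_⟩
          rw [hind k (a ^ (2 ^ m)) (by rw [map_pow]; exact hu), hk1]
          exact one_ne_zero
      refine h.commute_of_alt C hχ (fun a _ h0 l _ => ?_) (fun a _ b _ => hcm a b) x (Subgroup.mem_top _) y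
        (Subgroup.mem_top _)
      have h1 : mk a ^ (2 ^ m) = 1 := by
        rw [← map_pow]
        exact (QuotientGroup.eq_one_iff _).mpr (d_eq_one.mp ((C.co_eq_zero (hmem a)).mp h0))
      obtain ⟨v, hv⟩ := (hker (mk a)).mp (by rw [h1, CU.co_one])
      obtain ⟨z, rfl⟩ := QuotientGroup.mk'_surjective (fix α) v
      have he : (z * z)⁻¹ * a ∈ fix α := QuotientGroup.eq.mp ((map_mul mk z z).trans hv)
      have hzz : Commute (z * z) l := by
        rw [← commutatorElement_eq_one_iff_commute,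
          show ⁅z * z, l⁆ = z * ⁅z, l⁆ * z⁻¹ * ⁅z, l⁆ by simp only [commutatorElement_def]; group,
          ← (h.central (hcm z l) z).eq, mul_inv_cancel_right]
        exact h.sq_fix _ (mem_fix.mp (hcm z l))
      rw [← mul_inv_cancel_left (z * z) a]
      exact hzz.mul_left (h.central he l)
    · refine Or.inr ⟨fun x => (QuotientGroup.eq_one_iff _).mp ?_, ?_⟩
      · show QuotientGroup.mk' (fix α) (x * x) = 1
        rw [map_mul]; exact hall _
      · rw [hcard, hc2]; ring

theorem Hyp.classify (h : Hyp α ρ n) : (∀ x y : Q, Commute x y) ∨ Spec α n :=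
  classify_aux _ Q α ρ n rfl h

end Cfsg.Agent.H47.TwoSinger
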