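import Mathlib
import Cfsg.Agent.H47.TwoSinger.Main
import Cfsg.Agent.H47.TwoSinger.Ext

/-!
# Quadratic coordinates on the nonabelian groups

A nonabelian group satisfying `Hyp` is a central extension of `F × F` by `F` with squaring map
`(x, y) ↦ A x² + x y + y²`.
-/

set_option autoImplicit false
set_option linter.unusedSectionVars false
set_option linter.style.haveILetI false

namespace Cfsg.Agent.H47.TwoSinger

open scoped commutatorElement

universe u

/-- The squaring form. -/
def form {F : Type*} [CommRing F] (A : F) (v : F × F) : F := A * v.1 * v.1 + v.1 * v.2 + v.2 * v.2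

theorem mul_self_inj {F : Type*} [Field F] (h2 : ∀ x : F, x + x = 0) {u v : F} (h : u * u = v * v) : u = v := by
  have h' : (u + v) * (u + v) = 0 := by linear_combination h + h2 (u * v) + h2 (v * v)
  linear_combination mul_self_eq_zero.mp h' - h2 v

variable {Q : Type u} [Group Q] [Finite Q] {α ρ : MulAut Q} {n : ℕ}

theorem Coord.omega_pow (C : Coord α ρ n) (h : Hyp α ρ n) : C.ω ^ (2 ^ n - 1) = 1 := by
  have hk : ∀ (k : ℕ) x, (ρ ^ k) (C.j x) = C.j (C.ω ^ k * x) := by
    intro k
    induction k with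
    | zero => intro x; simp
    | succ k ih => intro x; rw [pow_succ', MulAut.mul_apply, ih, C.j_rho, pow_succ', mul_assoc]
  have := hk (2 ^ n - 1) 1
  rw [h.period, MulAut.one_apply, mul_one] at this
  exact (C.j_inj this).symm

/-- An equivariant additive extension of the coordinate of `level h` to the whole group. -/
theorem Hyp.exists_tau (h : Hyp α ρ n) (C : Coord α ρ n) (hsq : ∀ x : Q, x * x ∈ fix α)
    (hne : ∃ g : Q, g ∉ fix α) :
    ∃ τ : Q → GaloisField 2 n, (∀ a b, τ (a * b) = τ a + τ b) ∧ (∀ a, τ (ρ a) = C.ω * τ a) ∧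
      (∀ k ∈ level h, τ k = C.co (d α k)) := by
  haveI := h.fix_normal
  have hμ := h.char_level C hne
  set mk := QuotientGroup.mk' (fix α)
  letI : CommGroup (Q ⧸ fix α) :=
    { (inferInstance : Group (Q ⧸ fix α)) with
      mul_comm := fun u v => by
        obtain ⟨a, rfl⟩ := QuotientGroup.mk'_surjective (fix α) u
        obtain ⟨b, rfl⟩ := QuotientGroup.mk'_surjective (fix α) v
        show Commute (mk a) (mk b)
        rw [← commutatorElement_eq_one_iff_commute, ← map_commutatorElement]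
        exact (QuotientGroup.eq_one_iff _).mpr (comm_fix h hsq a b) }
  letI : Module (ZMod 2) (Additive (Q ⧸ fix α)) := AddCommGroup.zmodModule fun x => by
    rw [two_nsmul]
    obtain ⟨a, ha⟩ := QuotientGroup.mk'_surjective (fix α) x.toMul
    show x.toMul * x.toMul = 1
    rw [← ha, ← map_mul]
    exact (QuotientGroup.eq_one_iff _).mpr (hsq a)
  letI : Module (ZMod 2) (GaloisField 2 n) := AddCommGroup.zmodModule fun x => by
    rw [two_nsmul]; exact C.add_self x
  choose s hs using hμ.surj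
  have hmks : ∀ k ∈ level h, mk k = mk (s (C.co (d α k))) := fun k hk => by
    refine (QuotientGroup.eq.mpr ?_)
    have h2 := hμ.add _ (inv_mem hk) _ (hs (C.co (d α k))).1
    rw [hμ.inv hk, (hs _).2, C.add_self] at h2
    exact d_eq_one.mp ((C.co_eq_zero (mem_level.mp (mul_mem (inv_mem hk) (hs _).1))).mp h2)
  let g : GaloisField 2 n →+ Additive (Q ⧸ fix α) :=
    AddMonoidHom.mk' (fun x => Additive.ofMul (mk (s x))) fun x y => by
      rw [← ofMul_mul, ← map_mul]
      congr 1
      rw [hmks _ (mul_mem (hs x).1 (hs y).1), hμ.add _ (hs x).1 _ (hs y).1, (hs x).2, (hs y).2]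
  let gl : GaloisField 2 n →ₗ[ZMod 2] Additive (Q ⧸ fix α) := g.toZModLinearMap 2
  have hg : LinearMap.ker gl = ⊥ := by
    refine LinearMap.ker_eq_bot'.mpr fun x hx => ?_
    have h1 : s x ∈ fix α := (QuotientGroup.eq_one_iff _).mp (show mk (s x) = 1 from hx)
    rw [← (hs x).2, d_eq_one.mpr h1, C.co_one]
  obtain ⟨r, hr⟩ := LinearMap.exists_leftInverse_of_injective gl hg
  let τ0 : Q → GaloisField 2 n := fun a => r (Additive.ofMul (mk a))
  have hadd : ∀ a b, τ0 (a * b) = τ0 a + τ0 b := fun a b => by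
    show r _ = r _ + r _
    rw [← map_add, ← ofMul_mul, map_mul]
  have hres : ∀ k ∈ level h, τ0 k = C.co (d α k) := fun k hk => by
    show r _ = _
    rw [hmks k hk]
    exact LinearMap.congr_fun hr (C.co (d α k))
  have hω := C.omega_pow h
  have hω0 : C.ω ≠ 0 := by
    intro h0
    rw [h0, zero_pow (Nat.sub_ne_zero_of_lt (Nat.one_lt_two_pow (by have := h.two_le; omega)))] at hω
    exact zero_ne_one hω
  let f : Q → ℕ → GaloisField 2 n := fun a i => (C.ω ^ i)⁻¹ * τ0 ((ρ ^ i) a)
  refine ⟨fun a => ∑ i ∈ Finset.range (2 ^ n - 1), f a i, fun a b => ?_, fun a => ?_, fun k hk => ?_⟩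
  · simp only [f, map_mul, hadd, mul_add, Finset.sum_add_distrib]
  · have hstep : ∀ i, f (ρ a) i = C.ω * f a (i + 1) := fun i => by
      show (C.ω ^ i)⁻¹ * τ0 ((ρ ^ i) (ρ a)) = C.ω * ((C.ω ^ (i + 1))⁻¹ * τ0 ((ρ ^ (i + 1)) a))
      rw [show (ρ ^ i) (ρ a) = (ρ ^ (i + 1)) a by rw [pow_succ, MulAut.mul_apply]]
      field_simp
      ring
    simp only [hstep, ← Finset.mul_sum]
    congr 1
    have h1 := Finset.sum_range_succ' (f a) (2 ^ n - 1)
    rw [Finset.sum_range_succ] at h1
    have h2 : f a (2 ^ n - 1) = f a 0 := by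
      simp only [f, hω, h.period, pow_zero]
    rw [h2] at h1
    exact (add_right_cancel h1).symm
  · have hi : ∀ i : ℕ, (ρ ^ i) k ∈ level h ∧ C.co (d α ((ρ ^ i) k)) = C.ω ^ i * C.co (d α k) := by
      intro i
      induction i with
      | zero => exact ⟨hk, by simp⟩
      | succ i ih =>
        rw [pow_succ', MulAut.mul_apply]
        exact ⟨hμ.rho_mem _ ih.1, by rw [hμ.rho _ ih.1, ih.2, pow_succ', mul_assoc]⟩
    have hf : ∀ i, f k i = C.co (d α k) := fun i => by
      show (C.ω ^ i)⁻¹ * τ0 ((ρ ^ i) k) = _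
      rw [hres _ (hi i).1, (hi i).2, ← mul_assoc, inv_mul_cancel₀ (pow_ne_zero _ hω0), one_mul]
    simp only [hf, Finset.sum_const, Finset.card_range, nsmul_eq_mul]
    obtain ⟨l, hl⟩ : ∃ l, 2 ^ n - 1 = 2 * l + 1 := by
      refine ⟨2 ^ (n - 1) - 1, ?_⟩
      have h1 : 2 ^ n = 2 * 2 ^ (n - 1) := by
        rw [← pow_succ']; congr 1; have := h.two_le; omega
      have := Nat.two_pow_pos (n - 1)
      omega
    rw [hl]
    push_cast
    linear_combination C.add_self ((l : GaloisField 2 n) * C.co (d α k))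

/-- Quadratic coordinates. -/
theorem Hyp.exists_sqExt (h : Hyp α ρ n) (hsq : ∀ x : Q, x * x ∈ fix α)
    (hna : ¬ ∀ x y : Q, Commute x y) :
    ∃ A : GaloisField 2 n, Nonempty (SqExt (P := Q) (A := GaloisField 2 n) (form A)) := by
  obtain ⟨C⟩ := h.exists_coord
  have hne : ∃ g : Q, g ∉ fix α := by
    by_contra hc
    push Not at hc
    exact hna fun x y => h.central (hc x) y
  have hμ := h.char_level C hne
  have hχ := char_top h hsq C hna
  obtain ⟨τ, τadd, τrho, τK⟩ := h.exists_tau C hsq hne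
  set χ : Q → GaloisField 2 n := fun x => C.co (d α (d α x)) with hχdef
  set μ : Q → GaloisField 2 n := fun x => C.co (d α x) with hμdef
  have hd1 : d α (1 : Q) = 1 := d_eq_one.mpr (one_mem _)
  have hχK : ∀ k ∈ level h, χ k = 0 := fun k hk => by
    show C.co (d α (d α k)) = 0
    rw [d_eq_one.mpr (mem_level.mp hk), C.co_one]
  have hker : ∀ a, χ a = 0 → τ a = 0 → a ∈ fix α := fun a h1 h2 => by
    have ha : a ∈ level h := d_eq_one.mp ((C.co_eq_zero (d_mem_level h hsq a)).mp h1)
    rw [τK a ha] at h2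
    exact d_eq_one.mp ((C.co_eq_zero ha).mp h2)
  have τone : τ 1 = 0 := by
    have h1 := τadd 1 1
    rwa [one_mul, left_eq_add] at h1
  have τinv : ∀ a, τ a⁻¹ = τ a := fun a => by
    have h1 := τadd a a⁻¹
    rw [mul_inv_cancel, τone] at h1
    linear_combination -h1 - C.add_self (τ a)
  have hsurj : ∀ x y, ∃ a, χ a = x ∧ τ a = y := by
    intro x y
    obtain ⟨a, -, ha⟩ := hχ.surj x
    obtain ⟨k, hk, hky⟩ := hμ.surj (τ a + y)
    refine ⟨a * k, ?_, ?_⟩
    · rw [hχ.add a (Subgroup.mem_top _) k (Subgroup.mem_top _)]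
      show χ a + χ k = x
      rw [hχK k hk, add_zero]
      exact ha
    · rw [τadd, τK k hk]
      show τ a + μ k = y
      rw [hky]
      linear_combination C.add_self (τ a)
  let Z : Subgroup Q :=
    { carrier := {a | τ a = 0}
      one_mem' := τone
      mul_mem' := fun {a b} (ha : τ a = 0) (hb : τ b = 0) => show τ (a * b) = 0 by rw [τadd, ha, hb, add_zero]
      inv_mem' := fun {a} (ha : τ a = 0) => show τ a⁻¹ = 0 by rw [τinv, ha] }
  have hZ : IsChar C Z χ := ⟨fun a (ha : τ a = 0) => show τ (ρ a) = 0 by rw [τrho, ha, mul_zero],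
    fun a _ b _ => hχ.add a (Subgroup.mem_top _) b (Subgroup.mem_top _), fun a _ => hχ.rho a (Subgroup.mem_top _),
    fun x => by obtain ⟨a, h1, h2⟩ := hsurj x 0; exact ⟨a, h2, h1⟩⟩
  have hZcomm : ∀ a ∈ Z, ∀ b ∈ Z, Commute a b :=
    h.commute_of_alt C hZ (fun a ha h0 l _ => h.central (hker a h0 ha) l) fun a _ b _ => comm_fix h hsq a b
  -- the squaring map is linear on `Z` and on `level h`
  have hlin : ∀ {L : Subgroup Q} {ν : Q → GaloisField 2 n}, IsChar C L ν → (∀ a ∈ L, ∀ b ∈ L, Commute a b) →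
      (∀ a ∈ L, ν a = 0 → a ∈ fix α) → ∃ c, ∀ a ∈ L, C.co (a * a) = ν a * c := by
    intro L ν hν hL hk
    choose s hs using hν.surj
    have hwd : ∀ a ∈ L, C.co (a * a) = C.co (s (ν a) * s (ν a)) := fun a ha => by
      have h0 : ν ((s (ν a))⁻¹ * a) = 0 := by
        rw [hν.add _ (inv_mem (hs _).1) _ ha, hν.inv (hs _).1, (hs _).2, C.add_self]
      have he := hk _ (mul_mem (inv_mem (hs _).1) ha) h0
      conv_lhs => rw [← mul_inv_cancel_left (s (ν a)) a]
      rw [(h.central he (s (ν a))).mul_mul_mul_comm (s (ν a)) ((s (ν a))⁻¹ * a), h.sq_fix _ (mem_fix.mp he),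
        mul_one]
    refine ⟨C.co (s 1 * s 1), fun a ha => ?_⟩
    rw [hwd a ha]
    refine equivariant_map C.gen (f := fun x => C.co (s x * s x)) (fun x y => ?_) (fun x => ?_) (ν a)
    · have h1 := hwd _ (mul_mem (hs x).1 (hs y).1)
      rw [hν.add _ (hs x).1 _ (hs y).1, (hs x).2, (hs y).2,
        (hL _ (hs y).1 _ (hs x).1).mul_mul_mul_comm (s x) (s y), C.co_mul (hsq _) (hsq _)] at h1
      exact h1.symm
    · have h1 := hwd _ (hν.rho_mem _ (hs x).1)
      rw [hν.rho _ (hs x).1, (hs x).2, ← map_mul, C.co_rho h (hsq _)] at h1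
      exact h1.symm
  obtain ⟨A0, hA0⟩ := hlin hZ hZcomm fun a ha h0 => hker a h0 ha
  obtain ⟨b0, hb0⟩ := hlin hμ (h.level_comm C) fun a ha h0 => d_eq_one.mp ((C.co_eq_zero ha).mp h0)
  obtain ⟨c, hc⟩ := h.pairing C hχ hμ
    (fun a _ h0 l hl => h.level_comm C a (d_eq_one.mp ((C.co_eq_zero (d_mem_level h hsq a)).mp h0)) l hl)
    (fun l hl h0 a _ => h.central (d_eq_one.mp ((C.co_eq_zero hl).mp h0)) a) (fun a _ l _ => comm_fix h hsq a l)
  have hform : ∀ a, ∃ r, r * r = χ a * τ a * c ∧ C.co (a * a) = χ a * A0 + r + τ a * b0 := by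
    intro a
    obtain ⟨k, hk, hka⟩ := hμ.surj (τ a)
    have hkk : τ k = τ a := (τK k hk).trans hka
    set z := a * k⁻¹ with hz
    have hzZ : z ∈ Z := show τ z = 0 by rw [hz, τadd, τinv, hkk]; exact C.add_self _
    have hza : χ z = χ a := by
      rw [hz, hχ.add a (Subgroup.mem_top _) k⁻¹ (Subgroup.mem_top _)]
      show χ a + χ k⁻¹ = χ a
      rw [hχK _ (inv_mem hk), add_zero]
    refine ⟨C.co ⁅z⁻¹, k⁆, ?_, ?_⟩
    · rw [hc z⁻¹ (Subgroup.mem_top _) k hk, hχ.inv (Subgroup.mem_top z)]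
      show χ z * μ k * c = _
      rw [hza, show μ k = τ a from hka]
    · have e : a * a = z * z * ⁅z⁻¹, k⁆ * (k * k) := by
        rw [hz, commutatorElement_def]; group
      rw [e, C.co_mul (mul_mem (hsq z) (comm_fix h hsq _ _)) (hsq k), C.co_mul (hsq z) (comm_fix h hsq _ _),
        hA0 z hzZ, hb0 k hk, hza, show μ k = τ a from hka]
  have hc0 : c ≠ 0 := by
    intro h0
    refine level_not_central h hsq C hna fun k hk a => ?_
    have h1 := hc a (Subgroup.mem_top _) k hk
    rw [h0, mul_zero, mul_self_eq_zero, C.co_eq_zero (comm_fix h hsq a k)] at h1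
    exact (commutatorElement_eq_one_iff_commute.mp h1).symm
  have hcb : c = b0 * b0 := by
    obtain ⟨z, hz, hz1⟩ := hZ.surj 1
    obtain ⟨r, hr, hrs⟩ := hform (α z)
    have hdz : d α z ∈ level h := d_mem_level h hsq z
    have h1 : χ (α z) = 1 := by
      rw [apply_eq z, hχ.add z (Subgroup.mem_top _) _ (Subgroup.mem_top _)]
      show χ z + χ (d α z) = 1
      rw [hχK _ hdz, hz1, add_zero]
    have h2 : τ (α z) = 1 := by
      rw [apply_eq z, τadd, show τ z = 0 from hz, τK _ hdz, zero_add]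
      exact hz1
    rw [h1, h2, ← map_mul, mem_fix.mp (hsq z), hA0 z hz, hz1, one_mul, one_mul] at hrs
    rw [h1, h2, one_mul, one_mul] at hr
    have h3 : r = b0 := by linear_combination -hrs - C.add_self b0
    rw [← hr, h3]
  have hb00 : b0 ≠ 0 := fun h0 => hc0 (by rw [hcb, h0, mul_zero])
  have hinj : Function.Injective fun t : GaloisField 2 n => t * t := fun u v huv => mul_self_inj C.add_self huv
  choose rt hrt using Finite.injective_iff_surjective.mp hinj
  simp only at hrt
  refine ⟨(A0 / b0) * (A0 / b0), ⟨{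
    π := fun a => (χ a, τ a)
    ι := fun z => C.j (b0 * rt z)
    π_mul := fun a b => Prod.ext (hχ.add a (Subgroup.mem_top _) b (Subgroup.mem_top _)) (τadd a b)
    π_surj := fun v => by
      obtain ⟨a, h1, h2⟩ := hsurj v.1 v.2
      exact ⟨a, Prod.ext h1 h2⟩
    ι_add := fun x y => by
      rw [← C.j_add]
      congr 1
      apply mul_self_inj C.add_self
      linear_combination b0 * b0 * hrt (x + y) - b0 * b0 * hrt x - b0 * b0 * hrt y
        - C.add_self (b0 * rt x * (b0 * rt y))
    ι_inj := fun x y hxy => by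
      rw [← hrt x, ← hrt y, mul_left_cancel₀ hb00 (C.j_inj hxy)]
    ker := fun a => by
      constructor
      · intro h0
        obtain ⟨h1, h2⟩ := Prod.ext_iff.mp h0
        obtain ⟨x, rfl⟩ := (C.mem a).mp (hker a h1 h2)
        refine ⟨x / b0 * (x / b0), ?_⟩
        congr 1
        rw [mul_self_inj C.add_self (hrt (x / b0 * (x / b0))), mul_div_cancel₀ _ hb00]
      · rintro ⟨z, rfl⟩
        have h1 : C.j (b0 * rt z) ∈ fix α := C.j_mem _
        exact Prod.ext (hχK _ (fix_le_level h h1))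
          (by
            show τ _ = 0
            rw [τK _ (fix_le_level h h1), d_eq_one.mpr h1, C.co_one])
    central := fun z a => h.central (C.j_mem _) a
    sq := fun a => by
      obtain ⟨r, hr, hs⟩ := hform a
      rw [← C.j_co (hsq a), hs]
      congr 1
      apply mul_self_inj C.add_self
      rw [mul_mul_mul_comm b0, hrt, form]
      rw [hcb] at hr
      field_simp
      linear_combination hr + C.add_self (χ a * A0 * r) + C.add_self (χ a * A0 * (τ a * b0))
        + C.add_self (r * (τ a * b0)) }⟩⟩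

end Cfsg.Agent.H47.TwoSinger
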