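import Mathlib
import Cfsg.Agent.H47.TwoSinger.Coords
import Cfsg.Agent.H33.SylU.Embed
import Cfsg.Agent.Linear.Unitriangular

/-!
# The models: Sylow 2-subgroups of `PSL₃(2ⁿ)` and `PSU₃(2ⁿ)`
-/

set_option autoImplicit false
set_option linter.unusedSectionVars false
set_option linter.style.haveILetI false

namespace Cfsg.Agent.H47.TwoSinger

open Cfsg Matrix

/-- Change of the coordinates of the quotient. -/
def SqExt.congr {P V V' A : Type*} [Group P] [AddCommGroup V] [AddCommGroup V'] [AddCommGroup A] {Φ : V → A}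
    {Φ' : V' → A} (x : SqExt (P := P) Φ) (e : V ≃+ V') (h : ∀ v, Φ' (e v) = Φ v) : SqExt (P := P) Φ' where
  π a := e (x.π a)
  ι := x.ι
  π_mul a b := by rw [x.π_mul, map_add]
  π_surj := e.surjective.comp x.π_surj
  ι_add := x.ι_add
  ι_inj := x.ι_inj
  ker a := by rw [map_eq_zero_iff e e.injective, x.ker]
  central := x.central
  sq a := by rw [x.sq, h]

section Split

variable {F : Type*} [Field F] [Fintype F]

theorem mem_unitriSL_three {g : Matrix.SpecialLinearGroup (Fin 3) F} :
    g ∈ Linear.unitriSL 3 F ↔ (g.1 1 0 = 0 ∧ g.1 2 0 = 0 ∧ g.1 2 1 = 0) ∧ (∀ i, g.1 i i = 1) := by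
  show (Matrix.SpecialLinearGroup.toGL g : Matrix (Fin 3) (Fin 3) F).BlockTriangular id ∧ _ ↔ _
  refine and_congr ⟨fun h => ⟨h (by decide), h (by decide), h (by decide)⟩, fun ⟨h1, h2, h3⟩ i j hij => ?_⟩
    Iff.rfl
  fin_cases i <;> fin_cases j <;> first
    | exact absurd hij (by decide)
    | exact h1
    | exact h2
    | exact h3

/-- An element of the unitriangular group from its entries. -/
def tri (x y z : F) : Linear.unitriSL 3 F :=
  ⟨⟨!![1, x, z; 0, 1, y; 0, 0, 1], by simp [Matrix.det_fin_three]⟩,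
    mem_unitriSL_three.mpr ⟨⟨rfl, rfl, rfl⟩, fun i => by fin_cases i <;> rfl⟩⟩

theorem eq_tri (g : Linear.unitriSL 3 F) : g = tri (g.1.1 0 1) (g.1.1 1 2) (g.1.1 0 2) := by
  obtain ⟨⟨h1, h2, h3⟩, hd⟩ := mem_unitriSL_three.mp g.2
  refine Subtype.ext (Subtype.ext ?_)
  ext i j
  fin_cases i <;> fin_cases j <;> first
    | exact hd _
    | exact h1
    | exact h2
    | exact h3
    | rfl

theorem tri_mul (x y z x' y' z' : F) :
    tri x y z * tri x' y' z' = tri (x + x') (y + y') (z + z' + x * y') := by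
  refine Subtype.ext (Subtype.ext ?_)
  show (!![1, x, z; 0, 1, y; 0, 0, 1] : Matrix (Fin 3) (Fin 3) F) * !![1, x', z'; 0, 1, y'; 0, 0, 1] =
    !![1, x + x', z + z' + x * y'; 0, 1, y + y'; 0, 0, 1]
  ext i j
  fin_cases i <;> fin_cases j <;> simp [Matrix.mul_apply, Fin.sum_univ_three] <;> ring

theorem tri_inj {x y z x' y' z' : F} (h : tri x y z = tri x' y' z') : x = x' ∧ y = y' ∧ z = z' := by
  have h' : ∀ i j, (!![1, x, z; 0, 1, y; 0, 0, 1] : Matrix (Fin 3) (Fin 3) F) i j =
      (!![1, x', z'; 0, 1, y'; 0, 0, 1] : Matrix (Fin 3) (Fin 3) F) i j :=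
    fun i j => congrArg (fun g : Linear.unitriSL 3 F => g.1.1 i j) h
  exact ⟨h' 0 1, h' 1 2, h' 0 2⟩

theorem tri_one : tri (0 : F) 0 0 = 1 := by
  refine mul_left_cancel (a := tri (0 : F) 0 0) ?_
  rw [tri_mul, mul_one]
  simp

/-- The split model. -/
noncomputable def triExt [CharP F 2] :
    SqExt (P := Linear.unitriSL 3 F) (fun v : F × F => v.1 * v.2) where
  π g := (g.1.1 0 1, g.1.1 1 2)
  ι z := tri 0 0 z
  π_mul a b := by
    conv_lhs => rw [eq_tri a, eq_tri b, tri_mul]
    rfl
  π_surj v := ⟨tri v.1 v.2 0, rfl⟩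
  ι_add x y := by rw [tri_mul]; simp
  ι_inj x y h := (tri_inj h).2.2
  ker a := by
    constructor
    · intro h
      obtain ⟨h1, h2⟩ := Prod.ext_iff.mp h
      exact ⟨a.1.1 0 2, by
        conv_rhs => rw [eq_tri a, show a.1.1 0 1 = 0 from h1, show a.1.1 1 2 = 0 from h2]⟩
    · rintro ⟨z, rfl⟩; rfl
  central z a := by
    show _ * _ = _ * _
    rw [eq_tri a, tri_mul, tri_mul]
    simp [add_comm]
  sq a := by
    conv_lhs => rw [eq_tri a, tri_mul]
    simp only [CharTwo.add_self_eq_zero, zero_add]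

theorem nonempty_unitri_equiv_PSL [CharP F 2] (P : Sylow 2 (ProjectiveSpecialLinearGroup (Fin 3) F)) :
    Nonempty (Linear.unitriSL 3 F ≃* (P : Subgroup (ProjectiveSpecialLinearGroup (Fin 3) F))) := by
  haveI : Fact (Nat.Prime 2) := ⟨Nat.prime_two⟩
  let f : Linear.unitriSL 3 F →* ProjectiveSpecialLinearGroup (Fin 3) F :=
    (QuotientGroup.mk' (Subgroup.center _)).comp (Linear.unitriSL 3 F).subtype
  have hf : Function.Injective f := by
    refine (injective_iff_map_eq_one f).mpr fun g hg => ?_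
    obtain ⟨r, -, hr⟩ := Matrix.SpecialLinearGroup.mem_center_iff.mp ((QuotientGroup.eq_one_iff _).mp hg)
    have h1 : r = 1 := by
      have := congrFun (congrFun hr 0) 0
      simp only [Subgroup.coe_subtype, (mem_unitriSL_three.mp g.2).2 0] at this
      simpa using this
    subst h1
    rw [map_one] at hr
    exact Subtype.ext (Subtype.ext hr.symm)
  have hodd : ¬ 2 ∣ Nat.card (Subgroup.center (Matrix.SpecialLinearGroup (Fin 3) F)) := by
    intro h2
    obtain ⟨z, hz⟩ := exists_prime_orderOf_dvd_card' 2 h2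
    obtain ⟨r, hr3, hr⟩ := Matrix.SpecialLinearGroup.mem_center_iff.mp z.2
    have hz2 : (z : Matrix.SpecialLinearGroup (Fin 3) F) * z = 1 := by
      rw [← Subgroup.coe_mul, ← pow_two, ← hz, pow_orderOf_eq_one, Subgroup.coe_one]
    have h1 : r * r = 1 := by
      have := congrArg (fun g : Matrix.SpecialLinearGroup (Fin 3) F => (g : Matrix (Fin 3) (Fin 3) F) 0 0) hz2
      simp only [Matrix.SpecialLinearGroup.coe_mul, Matrix.SpecialLinearGroup.coe_one, ← hr, ← map_mul] at this
      simpa using this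
    have h3 : r = 1 := mul_self_inj CharTwo.add_self_eq_zero (h1.trans (one_mul 1).symm)
    subst h3
    have hz1 : (z : Matrix.SpecialLinearGroup (Fin 3) F) = 1 := Subtype.ext (by rw [← hr, map_one]; rfl)
    rw [show z = 1 from Subtype.ext hz1, orderOf_one] at hz
    exact absurd hz (by decide)
  have hc : Nat.card f.range = 2 ^ (Nat.card (ProjectiveSpecialLinearGroup (Fin 3) F)).factorization 2 := by
    have h := Linear.factorization_card_SL (n := 3) (F := F) 2
    rw [Subgroup.card_eq_card_quotient_mul_card_subgroup (Subgroup.center (Matrix.SpecialLinearGroup (Fin 3) F)),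
      Nat.factorization_mul Nat.card_pos.ne' Nat.card_pos.ne', Finsupp.add_apply,
      Nat.factorization_eq_zero_of_not_dvd hodd, add_zero] at h
    rw [show (Nat.card (ProjectiveSpecialLinearGroup (Fin 3) F)) = Nat.card (Matrix.SpecialLinearGroup (Fin 3) F ⧸
      Subgroup.center (Matrix.SpecialLinearGroup (Fin 3) F)) from rfl, h,
      ← Nat.card_congr (MonoidHom.ofInjective hf).toEquiv, Linear.card_unitriSL, Nat.card_eq_fintype_card]
  exact ⟨(MonoidHom.ofInjective hf).trans ((Sylow.ofCard _ hc).equiv P)⟩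

end Split

/-- The split quadratic form is the product of two coordinates. -/
theorem exists_split {F : Type*} [Field F] [CharP F 2] [Finite F] {A t : F} (ht : t * t + t = A) :
    ∃ e : (F × F) ≃+ (F × F), ∀ v, (e v).1 * (e v).2 = form A v := by
  let g : (F × F) →+ (F × F) := AddMonoidHom.mk' (fun v => (v.2 + t * v.1, v.2 + (t + 1) * v.1)) fun u v => by
    ext <;> simp <;> ring
  have hg : Function.Injective g := by
    refine (injective_iff_map_eq_zero g).mpr fun v hv => ?_
    obtain ⟨h1, h2⟩ := Prod.ext_iff.mp hv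
    have h1' : v.2 + t * v.1 = 0 := h1
    have h2' : v.2 + (t + 1) * v.1 = 0 := h2
    have hx : v.1 = 0 := by linear_combination h2' - h1'
    rw [hx, mul_zero, add_zero] at h1'
    exact Prod.ext hx h1'
  refine ⟨AddEquiv.ofBijective g ⟨hg, Finite.injective_iff_surjective.mp hg⟩, fun v => ?_⟩
  show (v.2 + t * v.1) * (v.2 + (t + 1) * v.1) = form A v
  rw [form, ← ht]
  linear_combination CharTwo.add_self_eq_zero (t * v.1 * v.2)

theorem nonempty_equiv_PSL_sylow {Q : Type*} [Group Q] {n : ℕ} {A t : GaloisField 2 n}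
    (x : SqExt (P := Q) (A := GaloisField 2 n) (form A)) (ht : t * t + t = A)
    [Fintype (GaloisField 2 n)] (P : Sylow 2 (ProjectiveSpecialLinearGroup (Fin 3) (GaloisField 2 n))) :
    Nonempty (Q ≃* (P : Subgroup (ProjectiveSpecialLinearGroup (Fin 3) (GaloisField 2 n)))) := by
  obtain ⟨e, he⟩ := exists_split ht
  obtain ⟨e1⟩ := nonempty_mulEquiv CharTwo.add_self_eq_zero
    (x.congr e (Φ' := fun v => v.1 * v.2) he) triExt
  obtain ⟨e2⟩ := nonempty_unitri_equiv_PSL P
  exact ⟨e1.trans e2⟩

/-- The anisotropic case. -/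
theorem exists_unitary {Q : Type*} [Group Q] {n : ℕ} (hn : n ≠ 0) {A : GaloisField 2 n}
    (x : SqExt (P := Q) (A := GaloisField 2 n) (form A)) (hA : ∀ t : GaloisField 2 n, t * t + t ≠ A) :
    ∃ (K : Type) (_ : Field K) (_ : Fintype K), Fintype.card K = (2 ^ n) ^ 2 ∧
      ∀ P : Sylow 2 (PSU 3 K (2 ^ n)), Nonempty (Q ≃* (P : Subgroup (PSU 3 K (2 ^ n)))) := by
  classical
  letI : Fintype (GaloisField 2 n) := Fintype.ofFinite _
  set p : Polynomial (GaloisField 2 n) := Polynomial.X ^ 2 + Polynomial.X + Polynomial.C A with hp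
  have hdeg : p.natDegree = 2 := by rw [hp]; compute_degree!
  have hmonic : p.Monic := by rw [hp]; monicity!
  have hirr : Irreducible p := by
    refine (hmonic.irreducible_iff_roots_eq_zero_of_degree_le_three (by rw [hdeg]) (by rw [hdeg]; omega)).mpr ?_
    refine Multiset.eq_zero_of_forall_notMem fun t ht => ?_
    rw [Polynomial.mem_roots hmonic.ne_zero, Polynomial.IsRoot.def, hp] at ht
    simp only [Polynomial.eval_add, Polynomial.eval_pow, Polynomial.eval_X, Polynomial.eval_C] at ht
    exact hA t (by linear_combination ht - CharTwo.add_self_eq_zero A)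
  haveI := Fact.mk hirr
  let K := AdjoinRoot p
  let pb := AdjoinRoot.powerBasis (K := GaloisField 2 n) hirr.ne_zero
  haveI : Module.Finite (GaloisField 2 n) K := pb.finite
  haveI : Finite K := Module.finite_of_finite (GaloisField 2 n)
  letI : Fintype K := Fintype.ofFinite K
  have hcard : Fintype.card K = (2 ^ n) ^ 2 := by
    rw [← Nat.card_eq_fintype_card, Module.natCard_eq_pow_finrank (K := GaloisField 2 n),
      GaloisField.card 2 n hn, pb.finrank]
    rw [show pb.dim = p.natDegree from rfl, hdeg]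
  haveI : H33.SylU.QField K n := ⟨hcard⟩
  refine ⟨K, inferInstance, inferInstance, hcard, fun P => ?_⟩
  let of' : GaloisField 2 n →+* K := AdjoinRoot.of p
  set w : K := AdjoinRoot.root p with hw
  have hof : Function.Injective of' := of'.injective
  have hw2 : w * w + w = of' A := by
    have h := AdjoinRoot.eval₂_root p
    rw [hp] at h
    simp only [Polynomial.eval₂_add, Polynomial.eval₂_pow, Polynomial.eval₂_X, Polynomial.eval₂_C] at h
    linear_combination h - H33.SylU.add_self (n := n) (of' A)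
  have hofc : ∀ z, H33.SylU.cj2 n (of' z) = of' z := fun z => by
    show of' z ^ (2 ^ n) = of' z
    rw [← map_pow, ← GaloisField.card 2 n hn, Nat.card_eq_fintype_card, FiniteField.pow_card]
  let ψ : (GaloisField 2 n × GaloisField 2 n) →+ K :=
    AddMonoidHom.mk' (fun v => of' v.2 + w * of' v.1) fun u v => by simp; ring
  have hψi : Function.Injective ψ := by
    refine (injective_iff_map_eq_zero ψ).mpr fun v hv => ?_
    have hv' : of' v.2 + w * of' v.1 = 0 := hv
    by_cases h1 : v.1 = 0
    · rw [h1, map_zero, mul_zero, add_zero, map_eq_zero] at hv'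
      exact Prod.ext h1 hv'
    · exfalso
      have hne : of' v.1 ≠ 0 := (map_ne_zero of').mpr h1
      have hwv : w = of' (v.2 / v.1) := by
        rw [map_div₀, eq_div_iff hne]
        linear_combination hv' - H33.SylU.add_self (n := n) (of' v.2)
      refine hA (v.2 / v.1) (hof ?_)
      rw [map_add, map_mul, ← hwv, hw2]
  have hψs : Function.Surjective ψ := by
    refine ((Fintype.bijective_iff_injective_and_card _).mpr ⟨hψi, ?_⟩).2
    rw [hcard, Fintype.card_prod, ← Nat.card_eq_fintype_card, GaloisField.card 2 n hn, pow_two]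
  have hψc : ∀ v : GaloisField 2 n × GaloisField 2 n,
      H33.SylU.cj2 n (ψ v) = of' v.2 + H33.SylU.cj2 n w * of' v.1 := fun v => by
    show H33.SylU.cj2 n (of' v.2 + w * of' v.1) = _
    rw [H33.SylU.cj2_add, H33.SylU.cj2_mul, hofc, hofc]
  have hcw : H33.SylU.cj2 n w = w + 1 := by
    have h1 : H33.SylU.cj2 n w * H33.SylU.cj2 n w + H33.SylU.cj2 n w = of' A := by
      rw [← H33.SylU.cj2_mul, ← H33.SylU.cj2_add, hw2, hofc]
    have h2 : (H33.SylU.cj2 n w + w) * (H33.SylU.cj2 n w + w + 1) = 0 := by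
      linear_combination h1 + hw2 + H33.SylU.add_self (n := n) (of' A)
        + H33.SylU.add_self (n := n) (H33.SylU.cj2 n w * w)
    rcases mul_eq_zero.mp h2 with h | h
    · exfalso
      obtain ⟨y, hy⟩ := H33.SylU.exists_not_fixed (F := K) (n := n)
      obtain ⟨v, rfl⟩ := hψs y
      apply hy
      rw [hψc, show H33.SylU.cj2 n w = w by linear_combination h - H33.SylU.add_self (n := n) w]
      rfl
    · linear_combination h - H33.SylU.add_self (n := n) w - H33.SylU.add_self (n := n) (1 : K)
  have hnm : ∀ v, H33.SylU.nm n (ψ v) = of' (form A v) := fun v => by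
    rw [H33.SylU.nm, hψc, hcw]
    show (of' v.2 + w * of' v.1) * (of' v.2 + (w + 1) * of' v.1) = _
    rw [form, map_add, map_add, map_mul, map_mul, map_mul, map_mul, ← hw2]
    linear_combination H33.SylU.add_self (n := n) (w * of' v.1 * of' v.2)
  let e := AddEquiv.ofBijective ψ ⟨hψi, hψs⟩
  let model : SqExt (P := H33.SylU.Heis K n) (A := GaloisField 2 n) (form A) :=
  { π := fun g => e.symm g.a
    ι := fun z => H33.SylU.cen ⟨of' z, hofc z⟩
    π_mul := fun a b => by rw [H33.SylU.mul_a, map_add]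
    π_surj := fun v => by
      obtain ⟨g, hg⟩ := H33.SylU.exists_lift (n := n) (e v)
      exact ⟨g, by simp only; rw [hg, AddEquiv.symm_apply_apply]⟩
    ι_add := fun u v => by
      ext
      · simp
      · simp [H33.SylU.mul_b, H33.SylU.cj2_zero]
    ι_inj := fun u v h => hof (congrArg H33.SylU.Heis.b h)
    ker := fun a => by
      rw [map_eq_zero_iff e.symm e.symm.injective]
      constructor
      · intro ha
        have hb := H33.SylU.fixed_of_a_eq_zero ha
        obtain ⟨v, hv⟩ := hψs a.b
        rw [← hv, hψc, hcw] at hb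
        have hb' : of' v.2 + (w + 1) * of' v.1 = of' v.2 + w * of' v.1 := hb
        have hv1 : v.1 = 0 := (map_eq_zero of').mp (by linear_combination hb')
        refine ⟨v.2, ?_⟩
        ext
        · rw [ha]; rfl
        · rw [← hv, H33.SylU.cen_b]
          show of' v.2 = of' v.2 + w * of' v.1
          rw [hv1, map_zero, mul_zero, add_zero]
      · rintro ⟨z, rfl⟩; rfl
    central := fun z a => H33.SylU.commute_iff.mpr (by
      rw [H33.SylU.cen_a, H33.SylU.cj2_zero, zero_mul, H33.SylU.tr_eq_zero_iff]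
      exact H33.SylU.cj2_zero)
    sq := fun a => by
      rw [H33.SylU.sq_eq]
      congr 1
      refine Subtype.ext ?_
      show H33.SylU.nm n a.a = of' (form A (e.symm a.a))
      rw [← hnm]
      exact congrArg _ (e.apply_symm_apply a.a).symm }
  obtain ⟨e1⟩ := nonempty_mulEquiv CharTwo.add_self_eq_zero x model
  obtain ⟨e2⟩ := H33.SylU.nonempty_equiv_PSU P
  exact ⟨e1.trans e2⟩

end Cfsg.Agent.H47.TwoSinger
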